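import Cfsg.Agent.Mrg.Omega.NO3S.OneLine.Abs
import Cfsg.Agent.Mrg.Omega.NOThreeL.RZ.Frame
import Cfsg.Agent.Mrg.Omega.NOThreeL.Star
import Cfsg.Agent.Mrg.Omega.NOThreeL.RTreeF
import Cfsg.Agent.Mrg.Omega.NOThreeL.EndFive
import Cfsg.Agent.Mrg.Omega.NO3b.Union.Asm
import Cfsg.Agent.Mrg.Omega.NOThreeL.NF.Final
import Cfsg.Agent.Mrg.Omega.NOThreeL.Low.Defs
import Cfsg.Agent.Mrg.Omega.NO3b.Wc.Frame

section


/-!
# Box R of NO-3L: the refined chain of levels (helper319, THEOREM A)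

The levels go on beyond `V^!(S)`: `K` a level, `X ≤ Ω₁Z(K)` normalised by `N_G(K)`, then
`nxtX S X = ⟨best offenders of S on X⟩ C_S(X)` is a level again.

* `nxtX S X`, `nextX` : `Lev S (nxtX S X)`;
* `xm S K` : `Ω₁Z(K)` if `S` offends on it, else `⟨Z^{N_G(K)}⟩`;
* `chn S n` : `J(S)`, `chn S (n + 1) = nxtX S (xm S (chn S n))`; `chn_lev`;
* `ke S` : the end of the chain; `ke_lev`, `nn_zc`, `nn_Ve` : `Ω₁Z(ke S)` and `Ve S = ⟨Z^{N_G(ke S)}⟩` are in `NN(S)`;
* `norm_ke_le` : `N_G(ke S) ≤ N_G(chn S n)`.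
-/

set_option autoImplicit false
set_option linter.unusedSectionVars false

namespace Cfsg.Agent.Omega.NOThreeL.RLev

open Subgroup Cfsg Cfsg.Agent.Omega.MinPar Cfsg.Agent.Omega.Frame Cfsg.Agent.Omega.FrameNOFF
open Cfsg.Agent.ZN (o2 zc zl jj)
open Cfsg.Agent.ZN.ChoiceBase hiding mem_zc
open Cfsg.Agent.Omega.Node.NO3L Cfsg.Agent.Omega.NOThreeL.Basic
open Cfsg.Agent.Omega.NOThreeL.ZCut (FZ)
open Cfsg.Agent.Omega.NOThreeL.Star (YS le_YS)
open Cfsg.Agent.Omega.NO3b.Bang
open Cfsg.Agent.Omega.NO1.BestOff (Best exists_best)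
open Cfsg.Agent.Omega.FFThm (OffM ElemM)
open Cfsg.Agent.Omega.NO3S.Level (Lev nxt BO zc_cj normalizer_le_zc le_centralizer_zc)
open Cfsg.Agent.Omega.NOThreeL.RZ (Inv RR V_le_of le_norm_V V_mono inv_RR)
open Cfsg.Agent.PLocal.ThompsonJ
open Cfsg.Agent.MinSimple.VModule (zc_le le_normalizer_o2 le_normalizer_zl zc_le_zl zl_le o2_isPGroup
  o2_le le_o2 zc_sq)

universe u

variable {G : Type u} [Group G]

/-- `⟨best offenders of S on X⟩ C_S(X)` -/
def nxtX (S X : Subgroup G) : Subgroup G := (S ⊓ centralizer (X : Set G)) ⊔ sSup {A | A ≤ S ∧ Best X A}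

theorem nxt_eq (S K : Subgroup G) : nxt S K = nxtX S (zc K) := rfl

theorem nxtX_le (S X : Subgroup G) : nxtX S X ≤ S := sup_le inf_le_left (sSup_le fun _ h => h.1)

theorem best_le {S X A : Subgroup G} (hA : A ≤ S) (h : Best X A) : A ≤ nxtX S X :=
  (le_sSup (show A ∈ {A | A ≤ S ∧ Best X A} from ⟨hA, h⟩)).trans le_sup_right

theorem inf_cent_le (S X : Subgroup G) : S ⊓ centralizer (X : Set G) ≤ nxtX S X := le_sup_left

theorem le_nxtX {S K X : Subgroup G} (h : K ≤ S) (hX : X ≤ zc K) : K ≤ nxtX S X :=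
  (le_inf h ((le_centralizer_zc K).trans (centralizer_le hX))).trans le_sup_left

/-- **The next level for `X`.** -/
theorem nextX [Finite G] {S K X : Subgroup G} (h : Lev S K) (hX : X ≤ zc K)
    (hn : normalizer (K : Set G) ≤ normalizer (X : Set G)) : Lev S (nxtX S X) where
  le := nxtX_le S X
  jjle := h.jjle.trans (le_nxtX h.le hX)
  norm := fun T h1 h2 g hg => by
    have hgK : g ∈ normalizer (K : Set G) := h.norm T ((le_nxtX h.le hX).trans h1) h2 hg
    have hT : cj g T = T := cj_eq_of_mem_normalizer hg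
    have hX' : cj g X = X := cj_eq_of_mem_normalizer (hn hgK)
    apply mem_normalizer_of_cj_le
    show Subgroup.map _ _ ≤ _
    rw [nxtX, Subgroup.map_sup]
    refine sup_le ?_ ?_
    · refine le_trans ?_ (inf_cent_le S X)
      refine le_inf ?_ ?_
      · exact (cj_mono g ((inf_cent_le S X).trans h1)).trans (hT.le.trans h2)
      · refine (cj_mono g inf_le_right).trans ?_
        rw [cj_centralizer, hX']
    · rw [Subgroup.map_le_iff_le_comap]
      refine sSup_le fun A hA => ?_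
      rw [← Subgroup.map_le_iff_le_comap]
      refine best_le ?_ (hA.2.conj (hn hgK))
      exact (cj_mono g ((best_le hA.1 hA.2).trans h1)).trans (hT.le.trans h2)

open Classical in
/-- The module of the level `K`. -/
noncomputable def xm (S K : Subgroup G) : Subgroup G :=
  if ∃ A : Subgroup G, A ≤ S ∧ OffM (zc K) A then zc K else zl S (normalizer (K : Set G))

/-- The chain of levels. -/
noncomputable def chn (S : Subgroup G) : ℕ → Subgroup G
  | 0 => jj S
  | n + 1 => nxtX S (xm S (chn S n))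

theorem zl_le_zc' {S K : Subgroup G} [Finite G] (h : Lev S K) : zl S (normalizer (K : Set G)) ≤ zc K :=
  zl_le h.zc_le (normalizer_le_zc K)

theorem xm_le_zc [Finite G] {S K : Subgroup G} (h : Lev S K) : xm S K ≤ zc K := by
  rw [xm]
  split_ifs
  · exact le_rfl
  · exact zl_le_zc' h

theorem le_norm_xm (S K : Subgroup G) : normalizer (K : Set G) ≤ normalizer (xm S K : Set G) := by
  rw [xm]
  split_ifs
  · exact normalizer_le_zc K
  · exact le_normalizer_zl S _

theorem zl_le_xm [Finite G] {S K : Subgroup G} (h : Lev S K) : zl S (normalizer (K : Set G)) ≤ xm S K := by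
  rw [xm]
  split_ifs
  · exact zl_le_zc' h
  · exact le_rfl

theorem chn_lev [Finite G] (S : Subgroup G) : ∀ n, Lev S (chn S n)
  | 0 => Lev.zero S
  | n + 1 => nextX (chn_lev S n) (xm_le_zc (chn_lev S n)) (le_norm_xm S _)

theorem chn_le_succ [Finite G] (S : Subgroup G) (n : ℕ) : chn S n ≤ chn S (n + 1) :=
  le_nxtX (chn_lev S n).le (xm_le_zc (chn_lev S n))

theorem chn_mono [Finite G] (S : Subgroup G) : Monotone (chn S) := monotone_nat_of_le_succ (chn_le_succ S)

theorem exists_stop [Finite G] (S : Subgroup G) : ∃ n, chn S (n + 1) = chn S n := by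
  by_contra hcon
  push Not at hcon
  have h1 : StrictMono (chn S) := strictMono_nat_of_lt_succ fun n => lt_of_le_of_ne (chn_le_succ S n) (hcon n).symm
  exact not_injective_infinite_finite _ h1.injective

/-- The end of the chain. -/
noncomputable def ke (S : Subgroup G) : Subgroup G := by
  classical
  exact if h : ∃ n, chn S (n + 1) = chn S n then chn S (Nat.find h) else S

theorem ke_eq [Finite G] (S : Subgroup G) : ∃ n, ke S = chn S n ∧ chn S (n + 1) = chn S n := by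
  classical
  have h := exists_stop S
  refine ⟨Nat.find h, ?_, Nat.find_spec h⟩
  rw [ke, dif_pos h]

/-- `V_e = ⟨Z^{N_G(ke S)}⟩` -/
noncomputable def Ve (S : Subgroup G) : Subgroup G := zl S (normalizer (ke S : Set G))

theorem ke_lev [Finite G] (S : Subgroup G) : Lev S (ke S) := by
  obtain ⟨n, h, -⟩ := ke_eq S
  rw [h]
  exact chn_lev S n

theorem chn_le_ke [Finite G] (S : Subgroup G) (m : ℕ) : chn S m ≤ ke S := by
  obtain ⟨n, h, h1⟩ := ke_eq S
  rw [h]
  rcases le_total m n with h2 | h2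
  · exact chn_mono S h2
  · obtain ⟨k, rfl⟩ := Nat.exists_eq_add_of_le h2
    clear h2
    induction k with
    | zero => exact le_rfl
    | succ k ih =>
      have h3 : chn S (n + k) = chn S n := le_antisymm ih (chn_mono S (Nat.le_add_right n k))
      have h4 : chn S (n + (k + 1)) = chn S (n + 1) := by
        show nxtX S (xm S (chn S (n + k))) = nxtX S (xm S (chn S n))
        rw [h3]
      rw [h4, h1]

/-- No subgroup of `S` offends on the module of the last level. -/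
theorem no_off [Finite G] (S : Subgroup G) {A : Subgroup G} (hA : A ≤ S) : ¬ OffM (xm S (ke S)) A := by
  intro ho
  obtain ⟨n, h, h1⟩ := ke_eq S
  obtain ⟨X, hXA, hb, hne⟩ := exists_best ho
  apply hne
  have h2 : X ≤ ke S := by
    rw [h, ← h1]
    show X ≤ nxtX S (xm S (chn S n))
    rw [← h]
    exact best_le (hXA.trans hA) hb
  exact h2.trans ((le_centralizer_zc (ke S)).trans (centralizer_le (xm_le_zc (ke_lev S))))

theorem no_off_zc [Finite G] (S : Subgroup G) {A : Subgroup G} (hA : A ≤ S) : ¬ OffM (zc (ke S)) A := by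
  intro ho
  have h1 : xm S (ke S) = zc (ke S) := by
    rw [xm, if_pos ⟨A, hA, ho⟩]
  exact no_off S hA (h1 ▸ ho)

theorem xm_ke [Finite G] (S : Subgroup G) : xm S (ke S) = Ve S := by
  rw [xm, if_neg]
  · rfl
  · rintro ⟨A, hA, ho⟩
    exact no_off_zc S hA ho

theorem nn_of [Finite G] {S K X : Subgroup G} (h : Lev S K) (hX : X ≤ zc K)
    (hn : normalizer (K : Set G) ≤ normalizer (X : Set G)) (hno : ∀ A ≤ S, ¬ OffM X A) : NN S X where
  le := hX.trans ((zc_le K).trans h.le)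
  norm := h.S_norm.trans hn
  comm := by
    intro x hx
    rw [mem_centralizer_iff]
    intro y hy
    exact Lev.zc_comm (hX hy) (hX hx)
  sq := fun v hv => (Cfsg.Agent.ZN.ChoiceBase.mem_zc.1 (hX hv)).2.1
  nff := hno

theorem nn_zc [Finite G] (S : Subgroup G) : NN S (zc (ke S)) :=
  nn_of (ke_lev S) le_rfl (normalizer_le_zc _) fun _ hA => no_off_zc S hA

theorem nn_Ve [Finite G] (S : Subgroup G) : NN S (Ve S) :=
  nn_of (ke_lev S) (zl_le_zc' (ke_lev S)) (le_normalizer_zl S _) fun _ hA ho =>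
    no_off S hA (by rw [xm_ke]; exact ho)

theorem norm_ke_le [Finite G] (S : Subgroup G) (n : ℕ) :
    normalizer (ke S : Set G) ≤ normalizer (chn S n : Set G) :=
  (chn_lev S n).norm _ (chn_le_ke S n) (ke_lev S).le

end Cfsg.Agent.Omega.NOThreeL.RLev

end

section


/-!
# Box R of NO-3L: the refined (RC') (helper319, THEOREM A; for the tree `RRed/GlueRef`)

`K_e = ke S` the last level of the refined chain, `N_z = ⟨z^Y⟩`, `Y = ⟨P*(S)⟩`, `V* = ⟨Z^Y⟩`.

* `RCw S` : `K_e ≰ C_G(N_z)` for all `z ∈ Z#`;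
* `nn_jj` : `J(S)` centralises the members of `NN(S)`;
* `step` : a `Y`-invariant `W = ⟨(W ∩ Z)^Y⟩` which is centralised by the level `K` lies in `xm S K`;
* `rr_eq_bot` : `RCw S` implies `RR S = 1`;
* `mv_exists` : under `RCw`, for `z ∈ Z#`: `J(S) ≰ C(N_z)`, or some level `K = chn S n ≤ C(N_z)`, `N_z ≤ xm S K`, and a
  best offender `A ≤ S` on `xm S K` does not centralise `N_z` (so `A` offends on `N_z`);
* `lev_exists` : under `RCw`: `J(S) ≰ O₂(P)` for some `P ∈ P*(S)`, or some level `K = chn S n` lies in all `O₂(P)`,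
  `V* ≤ xm S K` and `chn S (n + 1) ≰ O₂(P)` for some `P ∈ P*(S)`;
* `act_lev` : `chn S n ≤ O₂(P)`, `chn S (n + 1) ≰ O₂(P)`: a best offender on `xm S (chn S n)` is not in `O₂(P)` and
  offends on `⟨Z^P⟩`.
-/

set_option autoImplicit false
set_option linter.unusedSectionVars false

namespace Cfsg.Agent.Omega.NOThreeL.RLev

open Subgroup Cfsg Cfsg.Agent.Omega.MinPar Cfsg.Agent.Omega.Frame Cfsg.Agent.Omega.FrameNOFF
open Cfsg.Agent.ZN (o2 zc zl jj)
open Cfsg.Agent.ZN.ChoiceBase hiding mem_zc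
open Cfsg.Agent.Omega.Node.NO3L Cfsg.Agent.Omega.NOThreeL.Basic
open Cfsg.Agent.Omega.NOThreeL.ZCut (FZ XZ XZ_le mem_XZ XZ_mono le_normalizer_XZ conj_mem_XZ)
open Cfsg.Agent.Omega.NOThreeL.Star (YS le_YS S_le_YS)
open Cfsg.Agent.Omega.NO3b.Bang
open Cfsg.Agent.Omega.NO1.BestOff (Best)
open Cfsg.Agent.Omega.FFThm (OffM ElemM)
open Cfsg.Agent.Omega.NO3S.Level (Lev)
open Cfsg.Agent.Omega.NOThreeL.RZ (Inv RR V_le_of le_norm_V V_mono inv_RR)
open Cfsg.Agent.Omega.NOThreeL.RTreeF (RBF)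
open Cfsg.Agent.PLocal.ThompsonJ
open Cfsg.Agent.PLocal.ElemAbSup
open Cfsg.Agent.MinSimple.VModule (zc_le le_normalizer_o2 le_normalizer_zl zc_le_zl zl_le o2_isPGroup
  o2_le le_o2 zc_sq)
open Cfsg.Agent.Omega.SQ1.Bau (mem_AA_of_comm elem_comm elem_sq card_sup_comm)
open scoped Pointwise

universe u

variable {G : Type u} [Group G]

/-- **The refined (RC').** `K_e` does not centralise `N_z = ⟨z^Y⟩`, for all `z ∈ Z#`. -/
def RCw (S : Subgroup G) : Prop := ∀ z ∈ zc S, z ≠ 1 → ¬ ke S ≤ centralizer (XZ z (YS S) : Set G)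

section fin

variable [Finite G]

/-! ### `J(S)` centralises the members of `NN(S)` -/

theorem elem_of_nn {S W : Subgroup G} (h : NN S W) : IsElementaryAbelian 2 W :=
  isElementaryAbelian_iff.2 ⟨fun x hx _ hy => (mem_centralizer_iff.1 (h.comm hy) x hx), h.sq⟩

/-- `A ∈ A(S)` centralises `W ∈ NN(S)` (Thompson's inequality). -/
theorem nn_AA {S W A : Subgroup G} (h : NN S W) (hA : A ∈ AA S) : A ≤ centralizer (W : Set G) := by
  by_contra hne
  apply h.nff A hA.2.1
  have hAc : A ≤ centralizer (A : Set G) := fun a ha =>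
    mem_centralizer_iff.2 fun b hb => (elem_comm hA.1 b hb a ha)
  refine { toElemM := offM_of_abel hAc (fun a ha => elem_sq hA.1 a ha), ne := hne, le := ?_ }
  set C := A ⊓ centralizer (W : Set G) with hC
  have hc : ∀ a ∈ C, ∀ v ∈ W, a * v = v * a := fun a ha v hv =>
    (mem_centralizer_iff.1 (mem_inf.1 ha).2 v hv).symm
  have h1 : IsElementaryAbelian 2 (C ⊔ W : Subgroup G) :=
    isElementaryAbelian_sup (isElementaryAbelian_mono hA.1 inf_le_left) (elem_of_nn h)
      fun v hv => mem_centralizer_iff.2 fun a ha => hc a ha v hv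
  have h3 := hA.2.2 _ h1 (sup_le (inf_le_left.trans hA.2.1) h.le)
  have h4 := card_sup_comm hc
  have h5 : Nat.card ↥(C ⊓ W) ≤ Nat.card ↥(W ⊓ centralizer (A : Set G)) := by
    refine Subgroup.card_le_of_le ?_
    rintro x ⟨hx1, hx2⟩
    exact ⟨hx2, mem_centralizer_iff.2 fun a ha => elem_comm hA.1 a ha x (mem_inf.1 hx1).1⟩
  calc Nat.card W * Nat.card C = Nat.card ↥(C ⊔ W) * Nat.card ↥(C ⊓ W) := by rw [h4]; ring
    _ ≤ _ := Nat.mul_le_mul h3 h5

/-- **`J(S)` centralises `W ∈ NN(S)`.** -/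
theorem nn_jj {S W : Subgroup G} (h : NN S W) : jj S ≤ centralizer (W : Set G) := by
  rw [jj_eq]
  exact sSup_le fun A hA => nn_AA h hA

/-! ### The step -/

/-- `L' = ⟨P ∈ P*(S) : K ≤ O₂(P)⟩ S` normalises the level `K`. -/
theorem norm_of_o2 {S : Sylow 2 G} {K : Subgroup G} (hK : Lev (S : Subgroup G) K) :
    sSup {P | IsParS (S : Subgroup G) P ∧ K ≤ o2 P} ⊔ (S : Subgroup G) ≤ normalizer (K : Set G) := by
  refine sup_le (sSup_le ?_) hK.S_norm
  rintro P ⟨hP, h1⟩
  exact hK.le_norm_of_o2 h1 (hP.isLoc.o2_le S)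

/-- **The step**: a `Y`-invariant `W = ⟨(W ∩ Z)^Y⟩` which is centralised by the level `K` lies in the module of `K`. -/
theorem step {S : Sylow 2 G} (hS : (S : Subgroup G) ≤ YS (S : Subgroup G)) {K W : Subgroup G}
    (hK : Lev (S : Subgroup G) K) (hY : YS (S : Subgroup G) ≤ normalizer (W : Set G))
    (gen : W ≤ NoFF.Basic.V (W ⊓ zc (S : Subgroup G)) (YS (S : Subgroup G)))
    (hc : K ≤ centralizer (W : Set G)) : W ≤ zl (S : Subgroup G) (normalizer (K : Set G)) ∧ W ≤ xm (S : Subgroup G) K := by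
  have key : W ≤ zl (S : Subgroup G) (normalizer (K : Set G)) := by
    set L := sSup {P | IsParS (S : Subgroup G) P ∧ K ≤ o2 P} ⊔ (S : Subgroup G) with hL
    have hLY : L ≤ YS (S : Subgroup G) := sup_le (sSup_le fun P hP => le_YS hP.1) hS
    have h1 : NoFF.Basic.V (W ⊓ zc (S : Subgroup G)) L ≤ W := V_le_of inf_le_left (hLY.trans hY)
    have h2 : W ≤ NoFF.Basic.V (W ⊓ zc (S : Subgroup G)) L := by
      refine gen.trans (V_le_of (RZ.Z_le _ _) ?_)
      refine sSup_le fun P hP => ?_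
      by_cases h3 : K ≤ o2 P
      · exact (le_trans (show P ≤ sSup {P | IsParS (S : Subgroup G) P ∧ K ≤ o2 P} from le_sSup ⟨hP, h3⟩)
          le_sup_left).trans (le_norm_V _ L)
      · have hn : P ≤ normalizer ((P ⊓ centralizer (W : Set G) : Subgroup G) : Set G) := by
          intro p hp
          rw [mem_normalizer_iff_cj, cj_inf, cj_centralizer, cj_eq_of_mem_normalizer (le_normalizer hp),
            cj_eq_of_mem_normalizer (hY (le_YS hP hp))]
        rcases hP.toIsPar.sup_eq_or_inf_le S inf_le_left hn with h4 | h4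
        · rw [← h4]
          refine sup_le ?_ (le_sup_right.trans (le_norm_V _ L))
          refine inf_le_right.trans ?_
          exact (centralizer_le h1).trans (centralizer_le_normalizer _)
        · exfalso
          refine h3 (le_trans ?_ h4)
          exact le_inf hK.le (le_inf (hK.le.trans hP.le) hc)
    refine h2.trans (V_le_of ?_ ?_)
    · exact inf_le_right.trans (zc_le_zl _ _)
    · exact (norm_of_o2 hK).trans (le_normalizer_zl _ _)
  exact ⟨key, key.trans (zl_le_xm hK)⟩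

/-- the next level centralises `W`, up to best offenders on the module -/
theorem exists_best_of {S W : Subgroup G} {n : ℕ} (hW : W ≤ xm S (chn S n))
    (h : ¬ chn S (n + 1) ≤ centralizer (W : Set G)) :
    ∃ A : Subgroup G, A ≤ S ∧ Best (xm S (chn S n)) A ∧ ¬ A ≤ centralizer (W : Set G) := by
  by_contra hcon
  push Not at hcon
  apply h
  show nxtX S (xm S (chn S n)) ≤ _
  refine sup_le (inf_le_right.trans (centralizer_le hW)) (sSup_le ?_)
  rintro A ⟨h1, h2⟩
  exact hcon A h1 h2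

/-- all levels centralise the members of `NN(S)` of this form -/
theorem chn_cent {S : Sylow 2 G} (hS : (S : Subgroup G) ≤ YS (S : Subgroup G)) {W : Subgroup G}
    (h : Inv (S : Subgroup G) W) (n : ℕ) : chn (S : Subgroup G) n ≤ centralizer (W : Set G) := by
  induction n with
  | zero => exact nn_jj h.nn
  | succ n ih =>
    have hW := (step hS (chn_lev (S : Subgroup G) n) h.ys h.gen ih).2
    by_contra hne
    obtain ⟨A, hA, hb, hneA⟩ := exists_best_of hW hne
    exact hneA (h.nn.best hA hW hb)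

theorem ke_cent {S : Sylow 2 G} (hS : (S : Subgroup G) ≤ YS (S : Subgroup G)) {W : Subgroup G}
    (h : Inv (S : Subgroup G) W) : ke (S : Subgroup G) ≤ centralizer (W : Set G) := by
  obtain ⟨n, h1, -⟩ := ke_eq (S : Subgroup G)
  rw [h1]
  exact chn_cent hS h n

/-- **`RCw S` implies `RR S = 1`.** -/
theorem rr_bot {S : Sylow 2 G} (hS : (S : Subgroup G) ≤ YS (S : Subgroup G)) (hr : RCw (S : Subgroup G)) :
    RR (S : Subgroup G) = ⊥ := by
  by_contra hne
  have hi := inv_RR (S : Subgroup G)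
  have h0 : RR (S : Subgroup G) ⊓ zc (S : Subgroup G) ≠ ⊥ := by
    intro h0
    apply hne
    rw [eq_bot_iff]
    refine hi.gen.trans ?_
    rw [h0]
    refine NoFF.Basic.V_le fun p _ => ?_
    rw [show MulAut.conj p • (⊥ : Subgroup G) = ⊥ from Subgroup.map_bot _]
  obtain ⟨⟨z, hz⟩, hz1'⟩ := Subgroup.ne_bot_iff_exists_ne_one.1 h0
  have hz1 : z ≠ 1 := fun h => hz1' (Subtype.ext h)
  refine hr z hz.2 hz1 ((ke_cent hS hi).trans (centralizer_le ?_))
  refine XZ_le fun p hp => ?_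
  exact (mem_normalizer_iff.1 (hi.ys hp) z).1 hz.1

/-- **`hR` of `RRed/GlueRef`.** -/
theorem rr_eq_bot {S : Sylow 2 G} (h : RBF S) (hr : RCw (S : Subgroup G)) : RR (S : Subgroup G) = ⊥ :=
  rr_bot (S_le_YS h.ctx h.full) hr

/-! ### (mv): `N_z` is moved -/

/-- `N_z = ⟨z^Y⟩`, `z ∈ Z` -/
theorem XZ_gen {S : Subgroup G} {z : G} (hz : z ∈ zc S) :
    XZ z (YS S) ≤ NoFF.Basic.V (XZ z (YS S) ⊓ zc S) (YS S) := by
  refine XZ_le fun p hp => ?_
  have h1 : z ∈ NoFF.Basic.V (XZ z (YS S) ⊓ zc S) (YS S) := RZ.Z_le _ _ ⟨mem_XZ, hz⟩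
  exact (mem_normalizer_iff.1 (le_norm_V _ _ hp) z).1 h1

/-- **(mv).** Under `RCw`, for `z ∈ Z#`: `J(S)` moves `N_z`, or `N_z ≤ xm S K` for a level `K = chn S n` which
centralises `N_z`, and a best offender `A ≤ S` on `xm S K` moves `N_z` (so it offends on `N_z`). -/
theorem mv_exists {S : Sylow 2 G} (hS : (S : Subgroup G) ≤ YS (S : Subgroup G)) (hr : RCw (S : Subgroup G))
    {z : G} (hz : z ∈ zc (S : Subgroup G)) (hz1 : z ≠ 1) :
    (∃ A ∈ AA (S : Subgroup G), ¬ A ≤ centralizer (XZ z (YS (S : Subgroup G)) : Set G)) ∨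
    ∃ n, chn (S : Subgroup G) n ≤ centralizer (XZ z (YS (S : Subgroup G)) : Set G) ∧
      XZ z (YS (S : Subgroup G)) ≤ xm (S : Subgroup G) (chn (S : Subgroup G) n) ∧
      ∃ A : Subgroup G, A ≤ (S : Subgroup G) ∧ Best (xm (S : Subgroup G) (chn (S : Subgroup G) n)) A ∧
        ¬ A ≤ centralizer (XZ z (YS (S : Subgroup G)) : Set G) ∧ OffM (XZ z (YS (S : Subgroup G))) A := by
  classical
  have h0 : ∃ n, ¬ chn (S : Subgroup G) n ≤ centralizer (XZ z (YS (S : Subgroup G)) : Set G) := by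
    obtain ⟨n, h1, -⟩ := ke_eq (S : Subgroup G)
    exact ⟨n, h1 ▸ hr z hz hz1⟩
  obtain ⟨m, hm, hmin⟩ : ∃ m, ¬ chn (S : Subgroup G) m ≤ centralizer (XZ z (YS (S : Subgroup G)) : Set G) ∧
      ∀ k < m, chn (S : Subgroup G) k ≤ centralizer (XZ z (YS (S : Subgroup G)) : Set G) :=
    ⟨Nat.find h0, Nat.find_spec h0, fun k hk => not_not.1 (Nat.find_min h0 hk)⟩
  rcases m with _ | n
  · left
    by_contra hcon
    push Not at hcon
    apply hm
    show jj (S : Subgroup G) ≤ _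
    rw [jj_eq]
    exact sSup_le fun A hA => hcon A hA
  · right
    have h1 := hmin n (Nat.lt_succ_self n)
    have h2 := (step hS (chn_lev (S : Subgroup G) n) (le_normalizer_XZ z _) (XZ_gen hz) h1).2
    obtain ⟨A, hA, hb, hne⟩ := exists_best_of h2 hm
    exact ⟨n, h1, h2, A, hA, hb, hne, hb.offM h2 hne⟩

/-! ### The first level which moves something -/

/-- **The level `k₀`.** Under `RCw` (`Z ≠ 1`): `J(S) ≰ O₂(P)` for some `P ∈ P*(S)`, or for some `n` the level
`K = chn S n` lies in `O₂(P)` for all `P ∈ P*(S)`, `Y ≤ N_G(K)`, `V* ≤ xm S K`, and `chn S (n + 1) ≰ O₂(P)` for some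
`P ∈ P*(S)`. -/
theorem lev_exists {S : Sylow 2 G} (hr : RCw (S : Subgroup G))
    (hZ : zc (S : Subgroup G) ≠ ⊥) :
    (∃ P, IsParS (S : Subgroup G) P ∧ ¬ jj (S : Subgroup G) ≤ o2 P) ∨
    ∃ n, (∀ P, IsParS (S : Subgroup G) P → chn (S : Subgroup G) n ≤ o2 P) ∧
      YS (S : Subgroup G) ≤ normalizer (chn (S : Subgroup G) n : Set G) ∧
      zl (S : Subgroup G) (YS (S : Subgroup G)) ≤ xm (S : Subgroup G) (chn (S : Subgroup G) n) ∧
      ∃ P, IsParS (S : Subgroup G) P ∧ ¬ chn (S : Subgroup G) (n + 1) ≤ o2 P := by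
  classical
  have hN : ∀ n, (∀ P, IsParS (S : Subgroup G) P → chn (S : Subgroup G) n ≤ o2 P) →
      YS (S : Subgroup G) ≤ normalizer (chn (S : Subgroup G) n : Set G) := fun n h => sSup_le fun P hP =>
    (chn_lev (S : Subgroup G) n).le_norm_of_o2 (h P hP) (hP.isLoc.o2_le S)
  have h0 : ∃ n, ∃ P, IsParS (S : Subgroup G) P ∧ ¬ chn (S : Subgroup G) n ≤ o2 P := by
    by_contra hcon
    push Not at hcon
    obtain ⟨n, h1, -⟩ := ke_eq (S : Subgroup G)
    obtain ⟨⟨z, hz⟩, hz1'⟩ := Subgroup.ne_bot_iff_exists_ne_one.1 hZ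
    have hz1 : z ≠ 1 := fun h => hz1' (Subtype.ext h)
    have hY : YS (S : Subgroup G) ≤ normalizer (ke (S : Subgroup G) : Set G) := by
      rw [h1]; exact hN n (hcon n)
    refine hr z hz hz1 ((NO3S.Level.le_centralizer_zc (ke (S : Subgroup G))).trans (centralizer_le ?_))
    refine XZ_le fun p hp => ?_
    exact (mem_normalizer_iff.1 (NO3S.Level.normalizer_le_zc _ (hY hp)) z).1 ((ke_lev (S : Subgroup G)).zc_le hz)
  obtain ⟨m, hm, hmin⟩ : ∃ m, (∃ P, IsParS (S : Subgroup G) P ∧ ¬ chn (S : Subgroup G) m ≤ o2 P) ∧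
      ∀ k < m, ¬ ∃ P, IsParS (S : Subgroup G) P ∧ ¬ chn (S : Subgroup G) k ≤ o2 P :=
    ⟨Nat.find h0, Nat.find_spec h0, fun k hk => Nat.find_min h0 hk⟩
  rcases m with _ | n
  · exact Or.inl hm
  · right
    have h1 : ∀ P, IsParS (S : Subgroup G) P → chn (S : Subgroup G) n ≤ o2 P := fun P hP => by
      by_contra hne
      exact hmin n (Nat.lt_succ_self n) ⟨P, hP, hne⟩
    refine ⟨n, h1, hN n h1, ?_, hm⟩
    exact (Star.zl_mono _ (hN n h1)).trans (zl_le_xm (chn_lev (S : Subgroup G) n))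

/-- `P ∈ P*(S)` normalises the level `K` and `K' = nxtX S (xm S K) ≰ O₂(P)`: a best offender `A ≤ S` on `xm S K`
is not in `O₂(P)`, and it offends on `⟨Z^P⟩`. -/
theorem act_lev {S : Sylow 2 G} {n : ℕ} {P : Subgroup G} (hP : IsParS (S : Subgroup G) P)
    (h1 : chn (S : Subgroup G) n ≤ o2 P) (h2 : ¬ chn (S : Subgroup G) (n + 1) ≤ o2 P) :
    ∃ A : Subgroup G, A ≤ (S : Subgroup G) ∧ Best (xm (S : Subgroup G) (chn (S : Subgroup G) n)) A ∧ ¬ A ≤ o2 P ∧
      OffM (zl (S : Subgroup G) P) A := by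
  set X := xm (S : Subgroup G) (chn (S : Subgroup G) n) with hX
  have hK := chn_lev (S : Subgroup G) n
  have hPK : P ≤ normalizer (chn (S : Subgroup G) n : Set G) := hK.le_norm_of_o2 h1 (hP.isLoc.o2_le S)
  have hPX : P ≤ normalizer (X : Set G) := hPK.trans (le_norm_xm _ _)
  have hzX : zl (S : Subgroup G) P ≤ X := (Star.zl_mono _ hPK).trans (zl_le_xm hK)
  have hcz : (S : Subgroup G) ⊓ centralizer (zl (S : Subgroup G) P : Set G) ≤ o2 P := by
    have hn : P ≤ normalizer ((P ⊓ centralizer (zl (S : Subgroup G) P : Set G) : Subgroup G) : Set G) := by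
      intro p hp
      rw [mem_normalizer_iff_cj, cj_inf, cj_centralizer, cj_eq_of_mem_normalizer (le_normalizer hp),
        cj_eq_of_mem_normalizer (le_normalizer_zl _ _ hp)]
    rcases hP.toIsPar.sup_eq_or_inf_le S inf_le_left hn with h4 | h4
    · exfalso
      apply hP.not_zc
      rw [← h4]
      refine sup_le ?_ ?_
      · exact inf_le_right.trans ((centralizer_le (zc_le_zl _ _)).trans (centralizer_le_normalizer _))
      · exact (le_CZ S).trans (centralizer_le_normalizer _)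
    · exact le_trans (le_inf inf_le_left (le_inf (inf_le_left.trans hP.le) inf_le_right)) h4
  have hcX : (S : Subgroup G) ⊓ centralizer (X : Set G) ≤ o2 P :=
    (inf_le_inf_left _ (centralizer_le hzX)).trans hcz
  by_contra hcon
  push Not at hcon
  apply h2
  show nxtX (S : Subgroup G) X ≤ _
  refine sup_le hcX (sSup_le ?_)
  rintro A ⟨hA, hb⟩
  by_contra hne
  refine hcon A hA hb hne (hb.offM hzX fun h5 => hne ?_)
  exact (le_inf hA h5).trans hcz

end fin

end Cfsg.Agent.Omega.NOThreeL.RLev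

end

section


/-!
# Box R of NO-3L: the NotFF root of the last level (helper319, THEOREM A (3))

`M ≥ S`, `V = ⟨Z^M⟩ ∈ NN(S)`, `L = Lr S M = M ∩ N_G(C_S(V))`.

* `factor` : `M = C_M(V) L` (Frattini); `zl_Lr` : `⟨Z^L⟩ = V`;
* `nonLoc_Lr` : `⟨M, C_G(Z)⟩` nonlocal implies `⟨L, C_G(Z)⟩` nonlocal;
* `notFF_nn` : `V` is not FF in the strong sense;
* `nfRoot_of` : `V ≤ O₂(C_G(Z))`, `⟨M, C_G(Z)⟩` nonlocal: `NFRoot S L`.
-/

set_option autoImplicit false
set_option linter.unusedSectionVars false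

namespace Cfsg.Agent.Omega.NOThreeL.RLev

open Subgroup Cfsg Cfsg.Agent.Omega.MinPar Cfsg.Agent.Omega.Frame Cfsg.Agent.Omega.FrameNOFF
open Cfsg.Agent.ZN (o2 zc zl jj)
open Cfsg.Agent.ZN.ChoiceBase hiding mem_zc
open Cfsg.Agent.Omega.Node.NO3L Cfsg.Agent.Omega.NOThreeL.Basic
open Cfsg.Agent.Omega.NO3b.Bang
open Cfsg.Agent.Omega.NO3b.EZero (NotFF)
open Cfsg.Agent.Omega.NOThreeL.Star (YS le_YS S_le_YS)
open Cfsg.Agent.Omega.NOThreeL.MergeNF (NFRoot)
open Cfsg.Agent.MinSimple.VModule (zc_le le_normalizer_o2 le_normalizer_zl zc_le_zl zl_le o2_isPGroup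
  o2_le le_o2 zc_sq)

universe u

variable {G : Type u} [Group G]

/-- `L = M ∩ N_G(C_S(V_M))`, `V_M = ⟨Z^M⟩` -/
def Lr (S M : Subgroup G) : Subgroup G :=
  M ⊓ normalizer ((S ⊓ centralizer (zl S M : Set G) : Subgroup G) : Set G)

section fin

variable [Finite G] {S : Sylow 2 G} {M : Subgroup G}

theorem Lr_le : Lr (S : Subgroup G) M ≤ M := inf_le_left

theorem le_Lr (hM : (S : Subgroup G) ≤ M) : (S : Subgroup G) ≤ Lr (S : Subgroup G) M := by
  refine le_inf hM fun s hs => ?_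
  rw [mem_normalizer_iff_cj, cj_inf, cj_centralizer, cj_eq_of_mem_normalizer (le_normalizer hs),
    cj_eq_of_mem_normalizer (le_normalizer_zl _ _ (hM hs))]

/-- `M = C_M(V) L` -/
theorem factor (hM : (S : Subgroup G) ≤ M) {m : G} (hm : m ∈ M) :
    ∃ c ∈ centralizer (zl (S : Subgroup G) M : Set G), c⁻¹ * m ∈ Lr (S : Subgroup G) M := by
  set K : Subgroup G := M ⊓ centralizer (zl (S : Subgroup G) M : Set G) with hK
  have hMK : M ≤ normalizer (K : Set G) := by
    intro g hg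
    rw [mem_normalizer_iff_cj, hK, cj_inf, cj_centralizer, cj_eq_of_mem_normalizer (le_normalizer hg),
      cj_eq_of_mem_normalizer (le_normalizer_zl _ _ hg)]
  obtain ⟨c, hc, h1⟩ := EndFive.frattini (S := S) (hM.trans hMK) (hMK hm)
  have e : (S : Subgroup G) ⊓ K = (S : Subgroup G) ⊓ centralizer (zl (S : Subgroup G) M : Set G) := by
    rw [hK, ← inf_assoc, inf_eq_left.2 hM]
  rw [e] at h1
  exact ⟨c, hc.2, M.mul_mem (M.inv_mem hc.1) hm, h1⟩

/-- `⟨Z^L⟩ = V` -/
theorem zl_Lr (hM : (S : Subgroup G) ≤ M) :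
    zl (S : Subgroup G) (Lr (S : Subgroup G) M) = zl (S : Subgroup G) M := by
  have h1 : zl (S : Subgroup G) (Lr (S : Subgroup G) M) ≤ zl (S : Subgroup G) M := Star.zl_mono _ Lr_le
  refine le_antisymm h1 (zl_le (zc_le_zl _ _) fun m hm => ?_)
  obtain ⟨c, hc, hl⟩ := factor hM hm
  have h2 : c ∈ normalizer (zl (S : Subgroup G) (Lr (S : Subgroup G) M) : Set G) :=
    centralizer_le_normalizer _ (centralizer_le h1 hc)
  have h3 := mul_mem h2 (le_normalizer_zl (S : Subgroup G) _ hl)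
  rwa [mul_inv_cancel_left] at h3

/-- `⟨L, C_G(Z)⟩` is nonlocal if `⟨M, C_G(Z)⟩` is. -/
theorem nonLoc_Lr (hM : (S : Subgroup G) ≤ M) (hn : NonLoc M (CZ (S : Subgroup G))) :
    NonLoc (Lr (S : Subgroup G) M) (CZ (S : Subgroup G)) := by
  intro U hU h1 h2
  refine hn U hU (fun m hm => ?_) h2
  obtain ⟨c, hc, hl⟩ := factor hM hm
  have h3 := mul_mem (h2 (centralizer_le (zc_le_zl _ _) hc)) (h1 hl)
  rwa [mul_inv_cancel_left] at h3

/-- `V ∈ NN(S)` is not FF in the strong sense. -/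
theorem notFF_nn (hM : (S : Subgroup G) ≤ M) (nn : NN (S : Subgroup G) (zl (S : Subgroup G) M)) :
    NotFF (zl (S : Subgroup G) M) := by
  refine NO3b.Final.notFF_of hM ?_
  rintro ⟨A, hA, ho⟩
  exact nn.nff A hA ho

/-- **The root.** -/
theorem nfRoot_of (hM : (S : Subgroup G) ≤ M) (nn : NN (S : Subgroup G) (zl (S : Subgroup G) M))
    (hZ : zc (S : Subgroup G) ≠ ⊥) (low : zl (S : Subgroup G) M ≤ o2 (CZ (S : Subgroup G)))
    (hn : NonLoc M (CZ (S : Subgroup G))) : NFRoot (S : Subgroup G) (Lr (S : Subgroup G) M) := by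
  have hcs : (S : Subgroup G) ⊓ centralizer (zl (S : Subgroup G) M : Set G) ≤ o2 (Lr (S : Subgroup G) M) :=
    le_o2 (inf_le_left.trans (le_Lr hM)) (S.isPGroup'.to_le inf_le_left) inf_le_right
  refine ⟨⟨le_Lr hM, fun h0 => hZ ?_⟩, ?_, ?_, ?_, nonLoc_Lr hM hn⟩
  · rw [eq_bot_iff, ← h0]
    exact ((zc_le_zl _ _).trans (le_inf nn.le nn.comm)).trans hcs
  · rw [zl_Lr hM]; exact hcs
  · rw [zl_Lr hM]; exact low
  · rw [zl_Lr hM]; exact notFF_nn hM nn

end fin

end Cfsg.Agent.Omega.NOThreeL.RLev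

end

section


/-!
# Box R of NO-3L: some level moves `V*` (helper319, THEOREM A (3); [NL] of helper858 (W-A))

`V* = ⟨Z^Y⟩`, `Y = ⟨P*(S)⟩`.

* `levels_of` : if all levels up to `chn S n` centralise `V*` then `Y ≤ N_G(chn S n)` and `V* ≤ xm S (chn S n)`;
* `ys_ke` : if no level moves `V*` then `Y ≤ N_G(ke S)`, `V* ≤ Ve S`;
* **`exists_level_of`** : from `NFRoot.false` and LOW (`Ve S ≤ O₂(C_G(Z))` if `Y ≤ N_G(ke S)`): `J(S)` moves `V*`, or
  `chn S (n + 1)` moves `V*` for some `n` with `Y ≤ N_G(chn S n)`, `V* ≤ xm S (chn S n)`.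
-/

set_option autoImplicit false
set_option linter.unusedSectionVars false

namespace Cfsg.Agent.Omega.NOThreeL.RLev

open Subgroup Cfsg Cfsg.Agent.Omega.MinPar Cfsg.Agent.Omega.Frame Cfsg.Agent.Omega.FrameNOFF
open Cfsg.Agent.ZN (o2 zc zl jj)
open Cfsg.Agent.ZN.ChoiceBase hiding mem_zc
open Cfsg.Agent.Omega.Node.NO3L Cfsg.Agent.Omega.NOThreeL.Basic
open Cfsg.Agent.Omega.NO3b.Bang
open Cfsg.Agent.Omega.NOThreeL.Star (YS le_YS S_le_YS)
open Cfsg.Agent.Omega.NOThreeL.MergeNF (NFRoot)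
open Cfsg.Agent.Omega.NO3S.Level (Lev)
open Cfsg.Agent.Omega.NOThreeL.RTreeF (RBF)
open Cfsg.Agent.MinSimple.VModule (zc_le le_normalizer_o2 le_normalizer_zl zc_le_zl zl_le o2_isPGroup
  o2_le le_o2 zc_sq)

universe u

variable {G : Type u} [Group G]

section fin

variable [Finite G] {S : Sylow 2 G}

/-- `C_S(V_P) ≤ O₂(P)` -/
theorem cs_le_o2 {P : Subgroup G} (hP : IsParS (S : Subgroup G) P) :
    (S : Subgroup G) ⊓ centralizer (zl (S : Subgroup G) P : Set G) ≤ o2 P := by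
  have hn : P ≤ normalizer ((P ⊓ centralizer (zl (S : Subgroup G) P : Set G) : Subgroup G) : Set G) := by
    intro p hp
    rw [mem_normalizer_iff_cj, cj_inf, cj_centralizer, cj_eq_of_mem_normalizer (le_normalizer hp),
      cj_eq_of_mem_normalizer (le_normalizer_zl _ _ hp)]
  rcases hP.toIsPar.sup_eq_or_inf_le S inf_le_left hn with h4 | h4
  · exfalso
    apply hP.not_zc
    rw [← h4]
    refine sup_le ?_ ?_
    · exact inf_le_right.trans ((centralizer_le (zc_le_zl _ _)).trans (centralizer_le_normalizer _))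
    · exact (le_CZ S).trans (centralizer_le_normalizer _)
  · exact le_trans (le_inf inf_le_left (le_inf (inf_le_left.trans hP.le) inf_le_right)) h4

/-- a subgroup of `S` which centralises `V*` lies in `O₂(P)` for all `P ∈ P*(S)` -/
theorem le_o2_of_cent {K P : Subgroup G} (hK : K ≤ (S : Subgroup G))
    (hc : K ≤ centralizer (zl (S : Subgroup G) (YS (S : Subgroup G)) : Set G))
    (hP : IsParS (S : Subgroup G) P) : K ≤ o2 P :=
  (le_inf hK (hc.trans (centralizer_le (Star.zl_mono _ (le_YS hP))))).trans (cs_le_o2 hP)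

/-- a level which centralises `V*` is normalised by `Y` -/
theorem ys_norm {K : Subgroup G} (hK : Lev (S : Subgroup G) K)
    (hc : K ≤ centralizer (zl (S : Subgroup G) (YS (S : Subgroup G)) : Set G)) :
    YS (S : Subgroup G) ≤ normalizer (K : Set G) := sSup_le fun _ hP =>
  hK.le_norm_of_o2 (le_o2_of_cent hK.le hc hP) (hP.isLoc.o2_le S)

theorem vs_le_xm {K : Subgroup G} (hK : Lev (S : Subgroup G) K)
    (hc : K ≤ centralizer (zl (S : Subgroup G) (YS (S : Subgroup G)) : Set G)) :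
    zl (S : Subgroup G) (YS (S : Subgroup G)) ≤ xm (S : Subgroup G) K :=
  (Star.zl_mono _ (ys_norm hK hc)).trans (zl_le_xm hK)

/-- some level moves `V*`, or `ke S` centralises `V*` -/
theorem level_or :
    ¬ jj (S : Subgroup G) ≤ centralizer (zl (S : Subgroup G) (YS (S : Subgroup G)) : Set G) ∨
    (∃ n, YS (S : Subgroup G) ≤ normalizer (chn (S : Subgroup G) n : Set G) ∧
      zl (S : Subgroup G) (YS (S : Subgroup G)) ≤ xm (S : Subgroup G) (chn (S : Subgroup G) n) ∧
      ¬ chn (S : Subgroup G) (n + 1) ≤ centralizer (zl (S : Subgroup G) (YS (S : Subgroup G)) : Set G)) ∨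
    ke (S : Subgroup G) ≤ centralizer (zl (S : Subgroup G) (YS (S : Subgroup G)) : Set G) := by
  by_cases h0 : jj (S : Subgroup G) ≤ centralizer (zl (S : Subgroup G) (YS (S : Subgroup G)) : Set G)
  · right
    by_cases h1 : ∃ n, YS (S : Subgroup G) ≤ normalizer (chn (S : Subgroup G) n : Set G) ∧
      zl (S : Subgroup G) (YS (S : Subgroup G)) ≤ xm (S : Subgroup G) (chn (S : Subgroup G) n) ∧
      ¬ chn (S : Subgroup G) (n + 1) ≤ centralizer (zl (S : Subgroup G) (YS (S : Subgroup G)) : Set G)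
    · exact Or.inl h1
    · right
      push Not at h1
      obtain ⟨n, hn, -⟩ := ke_eq (S : Subgroup G)
      rw [hn]
      clear hn
      induction n with
      | zero => exact h0
      | succ n ih => exact h1 n (ys_norm (chn_lev _ n) ih) (vs_le_xm (chn_lev _ n) ih)
  · exact Or.inl h0

/-- **Some level moves `V*`**, from `NFRoot.false` and LOW. -/
theorem exists_level_of (h : RBF S)
    (hf : ∀ L : Subgroup G, NFRoot (S : Subgroup G) L → False)
    (low : YS (S : Subgroup G) ≤ normalizer (ke (S : Subgroup G) : Set G) →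
      Ve (S : Subgroup G) ≤ o2 (CZ (S : Subgroup G))) :
    ¬ jj (S : Subgroup G) ≤ centralizer (zl (S : Subgroup G) (YS (S : Subgroup G)) : Set G) ∨
    ∃ n, YS (S : Subgroup G) ≤ normalizer (chn (S : Subgroup G) n : Set G) ∧
      zl (S : Subgroup G) (YS (S : Subgroup G)) ≤ xm (S : Subgroup G) (chn (S : Subgroup G) n) ∧
      ¬ chn (S : Subgroup G) (n + 1) ≤ centralizer (zl (S : Subgroup G) (YS (S : Subgroup G)) : Set G) := by
  rcases level_or (S := S) with h1 | h1 | h1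
  · exact Or.inl h1
  · exact Or.inr h1
  · exfalso
    have hY := ys_norm (ke_lev (S : Subgroup G)) h1
    have hZ : zc (S : Subgroup G) ≠ ⊥ := MinSimple.Basic.zc_ne_bot S.isPGroup' (h.ctx.sylow_ne_bot S)
    refine hf _ (nfRoot_of (M := normalizer (ke (S : Subgroup G) : Set G)) (ke_lev (S : Subgroup G)).S_norm
      (nn_Ve (S : Subgroup G)) hZ (low hY) ?_)
    intro U hU h2 h3
    exact eq_bot_of_norm h.ctx S h.full hU (fun P hP => (le_YS hP).trans (hY.trans h2)) h3

end fin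

end Cfsg.Agent.Omega.NOThreeL.RLev

end

section


/-!
# [NL] of box R: the interface of helper492's text #26533

`W^` the largest weakly closed subgroup of `S` in `C_S(V*)`, `M = N_G(W^)`, `V = ⟨Z^M⟩`, `S` does not offend on `V`.

* `Hat S M V` : the data; `prin` is PRINCIPLE' (0);
* `Hat.low` (HatSit.lean, helper492, (1)-(7)) : `V ≤ O₂(C_G(Z))` if some `C_Z(R) ≠ 1`;
* HatNL.lean (helper403, (0), (8)) : `Hat S M V` if no level moves `V*`; `exists_levX`.
-/

set_option autoImplicit false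

namespace Cfsg.Agent.Omega.NOThreeL.RLev

open Subgroup Cfsg Cfsg.Agent.Omega.MinPar Cfsg.Agent.Omega.Frame Cfsg.Agent.Omega.FrameNOFF
open Cfsg.Agent.ZN (o2 zc zl jj)
open Cfsg.Agent.Omega.Node.NO3L Cfsg.Agent.Omega.NOThreeL.Basic
open Cfsg.Agent.Omega.NO3b.Bang
open Cfsg.Agent.Omega.NOThreeL.Star (YS)
open Cfsg.Agent.ZN.ChoiceBase (cj)

universe u

variable {G : Type u} [Group G] [Finite G]

/-- **The data of #26533.** -/
structure Hat (S : Sylow 2 G) (M V : Subgroup G) : Prop where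
  ctx : Ctx G
  full : Full (S : Subgroup G)
  D : Data (S : Subgroup G)
  notA : ¬ CaseA (S : Subgroup G)
  /-- `Y = ⟨P*(S)⟩ ≤ M` -/
  YM : YS (S : Subgroup G) ≤ M
  eqV : V = zl (S : Subgroup G) M
  nn : NN (S : Subgroup G) V
  root : NO3b.Wc.Root S M
  /-- `M = N_G(W^)` -/
  eqM : NO3b.Wc.ML (S : Subgroup G) M = M
  /-- **(0) PRINCIPLE'** -/
  prin : ∀ FF : Set (Subgroup G), (∀ A ∈ FF, ∀ m ∈ M, cj m A ∈ FF) → (∀ A ∈ FF, A ≤ M ∧ IsPGroup 2 A) →
    (∃ A ∈ FF, A ≤ (S : Subgroup G) ∧ ¬ A ≤ centralizer (V : Set G)) →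
    ∃ B ∈ FF, B ≤ (S : Subgroup G) ∧ ∃ P, IsParS (S : Subgroup G) P ∧
      ¬ B ≤ centralizer (zl (S : Subgroup G) P : Set G)

theorem Hat.VL {S : Sylow 2 G} {M V : Subgroup G} (h : Hat S M V) : NO3b.Wc.VL (S : Subgroup G) M = V := by
  rw [NO3b.Wc.VL, h.eqM, h.eqV]

end Cfsg.Agent.Omega.NOThreeL.RLev

end
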