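import Cfsg.Agent.Mrg.Omega.NOThreeL.RLev.Chain
import Cfsg.Agent.Mrg.Omega.NOThreeL.RLow.Final
import Cfsg.Agent.Mrg.Omega.NOThreeL.RRed.FourTree
import Cfsg.Agent.Mrg.Omega.NO3b.BasePt.Final

-- merged: Cfsg.Agent.Mrg.Omega.NOThreeL.RLev.HatNL
section

/-!
# [NL] of box R: helper492's text #26533, (0) and (8)

`W^ = Wc.WH S Y` the largest weakly closed subgroup of `S` in `C_S(V*)`, `M = N_G(W^)`, `V = ⟨Z^M⟩`; `J(S) ≤ C(V*)`.

* `ys_wc` : weakly closed subgroups of `C_S(V*)` are normalised by `Y`; `jj_le_W`, `V_le_W`, `lev_W` : `Lev S W^`;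
* `nxt_wc` : `nxtX S V` is weakly closed;
* `nn_V`, `cs_eq` : if it centralises `V*` then `V ∈ NN(S)`, `C_S(V) = W^`;
* `prin` : PRINCIPLE' (0);  `hat_of` : the data `Hat S M V`;
* **`exists_levX_of`** : from `NFRoot.false` and `Hat.low`: `J(S)` moves `V*`, or a level `(K, X)` does.
-/

set_option autoImplicit false
set_option linter.unusedSectionVars false

namespace Cfsg.Agent.Omega.NOThreeL.RLev

open Subgroup Cfsg Cfsg.Agent.Omega.MinPar Cfsg.Agent.Omega.Frame Cfsg.Agent.Omega.FrameNOFF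
open Cfsg.Agent.ZN (o2 zc zl jj)
open Cfsg.Agent.ZN.ChoiceBase hiding mem_zc
open Cfsg.Agent.Omega.Node.NO3L Cfsg.Agent.Omega.NOThreeL.Basic
open Cfsg.Agent.Omega.NO3b.Bang
open Cfsg.Agent.Omega.NO3b.Wc (WC WH ML VL QL cj_sSup wc_WH WH_le WH_le_S le_WH mem_ML_of_le ML_le_norm_V)
open Cfsg.Agent.Omega.NOThreeL.Star (YS le_YS S_le_YS)
open Cfsg.Agent.Omega.NOThreeL.MergeNF (NFRoot)
open Cfsg.Agent.Omega.NO1.BestOff (Best exists_best)
open Cfsg.Agent.Omega.FFThm (OffM ElemM)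
open Cfsg.Agent.Omega.NO3S.Level (Lev)
open Cfsg.Agent.Omega.NOThreeL.RTreeF (RBF)
open Cfsg.Agent.MinSimple.VModule (zc_le le_normalizer_o2 le_normalizer_zl zc_le_zl zl_le o2_isPGroup
  o2_le le_o2 zc_sq mem_zc normalizer_le_normalizer_zc)

universe u

variable {G : Type u} [Group G]

section fin

variable [Finite G] {S : Sylow 2 G}

/-- `K` w.c. in `S`, `K ≤ O₂(P)`: `P ≤ N_G(K)` -/
theorem par_le_of_wc {K P : Subgroup G} (hK : WC (S : Subgroup G) K) (hP : IsParS (S : Subgroup G) P)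
    (h : K ≤ o2 P) : P ≤ normalizer (K : Set G) := by
  intro p hp
  rw [mem_normalizer_iff_cj]
  refine hK.eq p ((cj_mono p h).trans ?_)
  rw [cj_eq_of_mem_normalizer (le_normalizer_o2 P hp)]
  exact hP.isLoc.o2_le S

/-- `K` w.c. in `S`, `K ≤ C(V*)`: `Y ≤ N_G(K)` -/
theorem ys_wc {K : Subgroup G} (hK : WC (S : Subgroup G) K)
    (hc : K ≤ centralizer (zl (S : Subgroup G) (YS (S : Subgroup G)) : Set G)) :
    YS (S : Subgroup G) ≤ normalizer (K : Set G) := sSup_le fun _ hP =>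
  par_le_of_wc hK hP (le_o2_of_cent hK.le hc hP)

/-- `Y ≤ M` -/
theorem ys_le_M : YS (S : Subgroup G) ≤ ML (S : Subgroup G) (YS (S : Subgroup G)) :=
  ys_wc (wc_WH _ _) ((WH_le _ _).trans inf_le_right)

theorem vs_le_V : zl (S : Subgroup G) (YS (S : Subgroup G)) ≤ VL (S : Subgroup G) (YS (S : Subgroup G)) :=
  Star.zl_mono _ ys_le_M

theorem wc_jj : WC (S : Subgroup G) (jj (S : Subgroup G)) := by
  refine ⟨jj_le _, fun g hg => ?_⟩
  have h1 : jj (S : Subgroup G) ≤ cj g⁻¹ (S : Subgroup G) := cj_le_iff.1 hg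
  have h2 := MinSimple.EmptyTI.jj_eq S (isPGroup_cj g⁻¹ S.isPGroup') h1
  rw [jj_cj] at h2
  have h3 := congrArg (cj g) h2
  rw [cj_cj_inv] at h3
  exact h3.symm

section

variable (hj : jj (S : Subgroup G) ≤ centralizer (zl (S : Subgroup G) (YS (S : Subgroup G)) : Set G))
include hj

theorem jj_le_W : jj (S : Subgroup G) ≤ WH (S : Subgroup G) (YS (S : Subgroup G)) :=
  le_WH wc_jj (le_inf (jj_le _) hj)

/-- `V ≤ Ω₁(Z(W^))` -/
theorem V_le_zcW : VL (S : Subgroup G) (YS (S : Subgroup G)) ≤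
    zc (WH (S : Subgroup G) (YS (S : Subgroup G))) := by
  refine zl_le ?_ (normalizer_le_normalizer_zc _)
  intro x hx
  have h1 := mem_zc.1 hx
  refine mem_zc.2 ⟨jj_le_W hj (mem_zj.1 (zc_le_zj _ hx)).1, fun y hy => h1.2.1 y (WH_le_S _ _ hy), h1.2.2⟩

theorem W_cent : WH (S : Subgroup G) (YS (S : Subgroup G)) ≤
    centralizer (VL (S : Subgroup G) (YS (S : Subgroup G)) : Set G) :=
  cent_symm ((V_le_zcW hj).trans fun _ hx => mem_centralizer_iff.2 fun y hy => (mem_zc.1 hx).2.1 y hy)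

/-- `Lev S W^` -/
theorem lev_W : Lev (S : Subgroup G) (WH (S : Subgroup G) (YS (S : Subgroup G))) where
  le := WH_le_S _ _
  jjle := jj_le_W hj
  norm := fun _ h1 h2 => NO3b.Wc.Root.norm_le h1 h2

/-- `⟨best offenders of S on V⟩ C_S(V)` is weakly closed. -/
theorem nxt_wc : WC (S : Subgroup G) (nxtX (S : Subgroup G) (VL (S : Subgroup G) (YS (S : Subgroup G)))) := by
  set V := VL (S : Subgroup G) (YS (S : Subgroup G)) with hV
  refine ⟨nxtX_le _ _, fun g hg => ?_⟩
  have h1 : WH (S : Subgroup G) (YS (S : Subgroup G)) ≤ nxtX (S : Subgroup G) V :=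
    (le_inf (WH_le_S _ _) (W_cent hj)).trans (inf_cent_le _ _)
  have h2 : g ∈ ML (S : Subgroup G) (YS (S : Subgroup G)) := mem_ML_of_le ((cj_mono g h1).trans hg)
  have hgV : g ∈ normalizer (V : Set G) := ML_le_norm_V _ _ h2
  have h4 : cj g (nxtX (S : Subgroup G) V) ≤ nxtX (S : Subgroup G) V := by
    have hg' := hg
    rw [nxtX] at hg' ⊢
    change Subgroup.map _ _ ≤ _
    rw [Subgroup.map_sup]
    refine sup_le ((le_inf ?_ ?_).trans le_sup_left) (le_trans ?_ le_sup_right)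
    · exact (cj_mono g le_sup_left).trans hg'
    · refine (cj_mono g inf_le_right).trans ?_
      rw [cj_centralizer, cj_eq_of_mem_normalizer hgV]
    · change cj g (sSup {A | A ≤ (S : Subgroup G) ∧ Best V A}) ≤ _
      rw [cj_sSup]
      refine iSup_le fun B => ?_
      exact le_sSup (a := cj g (B : Subgroup G)) ⟨(cj_mono g ((le_sSup B.2).trans le_sup_right)).trans hg', B.2.2.conj hgV⟩
  exact Subgroup.eq_of_le_of_card_ge h4 (card_cj _ _).ge

variable (hn : nxtX (S : Subgroup G) (VL (S : Subgroup G) (YS (S : Subgroup G))) ≤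
  centralizer (zl (S : Subgroup G) (YS (S : Subgroup G)) : Set G))
include hn

theorem nxt_le_W : nxtX (S : Subgroup G) (VL (S : Subgroup G) (YS (S : Subgroup G))) ≤
    WH (S : Subgroup G) (YS (S : Subgroup G)) := le_WH (nxt_wc hj) (le_inf (nxtX_le _ _) hn)

/-- `C_S(V) = W^` -/
theorem cs_eq : (S : Subgroup G) ⊓ centralizer (VL (S : Subgroup G) (YS (S : Subgroup G)) : Set G) =
    WH (S : Subgroup G) (YS (S : Subgroup G)) :=
  le_antisymm ((inf_cent_le _ _).trans (nxt_le_W hj hn)) (le_inf (WH_le_S _ _) (W_cent hj))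

/-- `V ∈ NN(S)` -/
theorem nn_V : NN (S : Subgroup G) (VL (S : Subgroup G) (YS (S : Subgroup G))) := by
  refine nn_of (lev_W hj) (V_le_zcW hj) (le_normalizer_zl _ _) fun A hA ho => ?_
  obtain ⟨X, hXA, hb, hne⟩ := exists_best ho
  exact hne ((best_le (hXA.trans hA) hb).trans ((nxt_le_W hj hn).trans (W_cent hj)))

/-- **(0) PRINCIPLE'** -/
theorem prin (FF : Set (Subgroup G)) (hF : ∀ A ∈ FF, ∀ m ∈ ML (S : Subgroup G) (YS (S : Subgroup G)), cj m A ∈ FF)
    (hex : ∃ A ∈ FF, A ≤ (S : Subgroup G) ∧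
      ¬ A ≤ centralizer (VL (S : Subgroup G) (YS (S : Subgroup G)) : Set G)) :
    ∃ B ∈ FF, B ≤ (S : Subgroup G) ∧ ∃ P, IsParS (S : Subgroup G) P ∧
      ¬ B ≤ centralizer (zl (S : Subgroup G) P : Set G) := by
  by_contra hcon
  push Not at hcon
  obtain ⟨A, hA, hAS, hAV⟩ := hex
  set K : Subgroup G := WH (S : Subgroup G) (YS (S : Subgroup G)) ⊔ sSup {B | B ∈ FF ∧ B ≤ (S : Subgroup G)}
    with hK
  have hKS : K ≤ (S : Subgroup G) := sup_le (WH_le_S _ _) (sSup_le fun B hB => hB.2)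
  have hKwc : WC (S : Subgroup G) K := by
    refine ⟨hKS, fun g hg => ?_⟩
    have h2 : g ∈ ML (S : Subgroup G) (YS (S : Subgroup G)) := mem_ML_of_le ((cj_mono g le_sup_left).trans hg)
    have h4 : cj g K ≤ K := by
      change Subgroup.map _ _ ≤ _
      rw [hK, Subgroup.map_sup]
      refine sup_le_sup (cj_eq_of_mem_normalizer h2).le ?_
      change cj g (sSup {B | B ∈ FF ∧ B ≤ (S : Subgroup G)}) ≤ _
      rw [cj_sSup]
      refine iSup_le fun B => ?_
      have h5 : cj g (B : Subgroup G) ≤ (S : Subgroup G) :=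
        (cj_mono g ((le_sSup B.2).trans le_sup_right)).trans hg
      exact le_sSup (a := cj g (B : Subgroup G)) ⟨hF _ B.2.1 g h2, h5⟩
    exact Subgroup.eq_of_le_of_card_ge h4 (card_cj _ _).ge
  have hKP : ∀ P, IsParS (S : Subgroup G) P → K ≤ o2 P := by
    intro P hP
    refine (le_inf hKS (sup_le ?_ (sSup_le fun B hB => hcon B hB.1 hB.2 P hP))).trans (cs_le_o2 hP)
    exact ((WH_le _ _).trans inf_le_right).trans (centralizer_le (Star.zl_mono _ (le_YS hP)))
  have hY : YS (S : Subgroup G) ≤ normalizer (K : Set G) := sSup_le fun P hP => par_le_of_wc hKwc hP (hKP P hP)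
  have hKc : K ≤ centralizer (zl (S : Subgroup G) (YS (S : Subgroup G)) : Set G) := by
    apply cent_symm
    refine zl_le ?_ (hY.trans ?_)
    · intro z hz
      rw [mem_centralizer_iff]
      intro k hk
      exact (mem_zc.1 hz).2.1 k (hKS hk)
    · intro y hy
      rw [mem_normalizer_iff_cj, cj_centralizer, cj_eq_of_mem_normalizer hy]
  have hKW : K ≤ WH (S : Subgroup G) (YS (S : Subgroup G)) := le_WH hKwc (le_inf hKS hKc)
  have h6 : A ≤ K := (le_sSup (s := {B | B ∈ FF ∧ B ≤ (S : Subgroup G)}) ⟨hA, hAS⟩).trans le_sup_right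
  exact hAV (h6.trans (hKW.trans (W_cent hj)))

theorem WH_eq : WH (S : Subgroup G) (ML (S : Subgroup G) (YS (S : Subgroup G))) =
    WH (S : Subgroup G) (YS (S : Subgroup G)) := by
  apply le_antisymm
  · refine (WH_le _ _).trans ?_
    exact (cs_eq hj hn).le
  · refine le_WH (wc_WH _ _) ?_
    exact (cs_eq hj hn).ge

/-- **The data.** -/
theorem hat_of (h : RBF S) : Hat S (ML (S : Subgroup G) (YS (S : Subgroup G)))
    (VL (S : Subgroup G) (YS (S : Subgroup G))) where
  ctx := h.ctx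
  full := h.full
  D := h.data
  notA := h.notA
  YM := ys_le_M
  eqV := rfl
  nn := nn_V hj hn
  root := by
    have hSM : (S : Subgroup G) ≤ ML (S : Subgroup G) (YS (S : Subgroup G)) := (S_le_YS h.ctx h.full).trans ys_le_M
    refine ⟨hSM, (nn_V hj hn).comm, (nn_V hj hn).sq, notFF_nn hSM (nn_V hj hn), ?_⟩
    have e : (S : Subgroup G) ⊓ centralizer (zl (S : Subgroup G) (ML (S : Subgroup G) (YS (S : Subgroup G))) : Set G) =
        WH (S : Subgroup G) (YS (S : Subgroup G)) := cs_eq hj hn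
    rw [e]
    exact le_rfl
  eqM := by
    show normalizer (WH (S : Subgroup G) (ML (S : Subgroup G) (YS (S : Subgroup G))) : Set G) = _
    rw [WH_eq hj hn]
    rfl
  prin := fun FF h1 _ h3 => prin hj hn FF h1 h3

end

/-- **Some level moves `V*`**, from `NFRoot.false` and `Hat.low`. -/
theorem exists_levX_of (h : RBF S) (hf : ∀ L : Subgroup G, NFRoot (S : Subgroup G) L → False)
    (low : ∀ M V : Subgroup G, Hat S M V → V ≤ o2 (CZ (S : Subgroup G))) :
    ¬ jj (S : Subgroup G) ≤ centralizer (zl (S : Subgroup G) (YS (S : Subgroup G)) : Set G) ∨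
    ∃ K X : Subgroup G, Lev (S : Subgroup G) K ∧ X ≤ zc K ∧ normalizer (K : Set G) ≤ normalizer (X : Set G) ∧
      zl (S : Subgroup G) (YS (S : Subgroup G)) ≤ X ∧ YS (S : Subgroup G) ≤ normalizer (K : Set G) ∧
      WC (S : Subgroup G) K ∧ WC (S : Subgroup G) (nxtX (S : Subgroup G) X) ∧
      ¬ nxtX (S : Subgroup G) X ≤ centralizer (zl (S : Subgroup G) (YS (S : Subgroup G)) : Set G) := by
  by_cases hj : jj (S : Subgroup G) ≤ centralizer (zl (S : Subgroup G) (YS (S : Subgroup G)) : Set G)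
  · right
    by_cases hn : nxtX (S : Subgroup G) (VL (S : Subgroup G) (YS (S : Subgroup G))) ≤
        centralizer (zl (S : Subgroup G) (YS (S : Subgroup G)) : Set G)
    · exfalso
      have H := hat_of hj hn h
      have hSM : (S : Subgroup G) ≤ ML (S : Subgroup G) (YS (S : Subgroup G)) := H.root.le
      have hZ : zc (S : Subgroup G) ≠ ⊥ := MinSimple.Basic.zc_ne_bot S.isPGroup' (h.ctx.sylow_ne_bot S)
      refine hf _ (nfRoot_of (M := ML (S : Subgroup G) (YS (S : Subgroup G))) hSM (nn_V hj hn) hZ (low _ _ H) ?_)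
      intro U hU h2 h3
      exact eq_bot_of_norm h.ctx S h.full hU (fun P hP => (le_YS hP).trans (ys_le_M.trans h2)) h3
    · exact ⟨WH (S : Subgroup G) (YS (S : Subgroup G)), VL (S : Subgroup G) (YS (S : Subgroup G)), lev_W hj,
        V_le_zcW hj, le_normalizer_zl _ _, vs_le_V, ys_le_M, wc_WH _ _, nxt_wc hj, hn⟩
  · exact Or.inl hj

end fin

end Cfsg.Agent.Omega.NOThreeL.RLev

end

-- merged: Cfsg.Agent.Mrg.Omega.NOThreeL.RLev.HatSit
section

/-!
# Box R: the front without galleries (helper492 #26533), part 1: states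

`Hyp V F` (`F` a maximal bad subgroup of `V`), `X = C_G(F)`, `E = V ∩ O₂(X)`, `W = ⟨E^X⟩`, `M ≤ N_G(V)`.

* `St S M V F B` : a state: `F ≤ B ≤ W`, `B` elementary abelian, `X`-invariant; a line `V_P^m ≤ E` (`m ∈ M`,
  `P ∈ P*(S)`) with `B ≤ S^m` centralises `B`;
* `AC V F B = C_W(B)`;
* `St.conj`, `St.enlarge`, `St.moves`, `St.cent_le`;
* `St.sit` : the situation `SitG`.
-/

set_option autoImplicit false
set_option linter.unusedSectionVars false

namespace Cfsg.Agent.Omega.NOThreeL.RLev.Hat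

open Subgroup Cfsg
open Cfsg.Agent.ZN hiding mem_zc le_o2 le_normalizer_o2 zl_le
open Cfsg.Agent.Omega.MinPar Cfsg.Agent.Omega.Frame
open Cfsg.Agent.Omega.FrameNOFF
open Cfsg.Agent.Omega.NoFF.Basic (conj_conj mem_conj conj_le_iff conj_le_centralizer comm_symm comm_mono
  Z_le_V V_le Sys)
open Cfsg.Agent.Omega.NOne.Flat (EE WW Hyp Bad)
open Cfsg.Agent.Omega.NOThreeL.Basic (CaseA)
open Cfsg.Agent.Omega.NOThreeL.Pair (conj_eq_of_mem conj_le_normalizer)
open Cfsg.Agent.Omega.Node.NO3L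
open Cfsg.Agent.Omega.NOThreeL.RZ (le_norm_V)
open Cfsg.Agent.Omega.NOThreeL.RLow (SitG good_of_ne)
open Cfsg.Agent.MinSimple.VModule (zc_le_zl zc_le zl_le_zc o2_isPGroup le_normalizer_o2
  mem_zc le_o2 o2_le le_centralizer_zc zc_sq zc_comm normalizer_le_normalizer_zc)
open scoped Pointwise

universe u

variable {G : Type u} [Group G]

/-- `C_W(B)` -/
def AC (V F B : Subgroup G) : Subgroup G := WW V F ⊓ centralizer (B : Set G)

/-- `⟨l^X⟩` -/
abbrev NX (l F : Subgroup G) : Subgroup G := NoFF.Basic.V l (centralizer (F : Set G))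

/-- **A state.** -/
structure St [Finite G] (S : Sylow 2 G) (M V F B : Subgroup G) : Prop where
  hyp : Hyp V F
  FB : F ≤ B
  BW : B ≤ WW V F
  XB : centralizer (F : Set G) ≤ normalizer (B : Set G)
  comm : B ≤ centralizer (B : Set G)
  sq : ∀ b ∈ B, b ^ 2 = 1
  inv : ∀ m ∈ M, ∀ P, IsParS (S : Subgroup G) P → MulAut.conj m • zl (S : Subgroup G) P ≤ EE V F →
    B ≤ MulAut.conj m • (S : Subgroup G) →
      MulAut.conj m • zl (S : Subgroup G) P ≤ centralizer (B : Set G)

theorem conj_inv_conj (x : G) (A : Subgroup G) : MulAut.conj x⁻¹ • (MulAut.conj x • A) = A := by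
  rw [conj_conj, inv_mul_cancel, map_one, one_smul]

theorem conj_conj_inv (x : G) (A : Subgroup G) : MulAut.conj x • (MulAut.conj x⁻¹ • A) = A := by
  rw [conj_conj, mul_inv_cancel, map_one, one_smul]

/-- two commuting subgroups of exponent 2 -/
theorem sup_sq {A B : Subgroup G} (hA : ∀ a ∈ A, a ^ 2 = 1) (hB : ∀ b ∈ B, b ^ 2 = 1)
    (h : A ≤ centralizer (B : Set G)) : ∀ b ∈ A ⊔ B, b ^ 2 = 1 := by
  intro b hb
  rw [← SetLike.mem_coe, Subgroup.coe_mul_of_left_le_normalizer_right _ _ (h.trans (centralizer_le_normalizer _)),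
    Set.mem_mul] at hb
  obtain ⟨a, ha, f, hf, rfl⟩ := hb
  have hcm : Commute a f := (mem_centralizer_iff.1 (h ha) f hf).symm
  rw [hcm.mul_pow, hA a ha, hB f hf, one_mul]

/-- `⟨l^X⟩` has exponent 2 if it is abelian -/
theorem NX_sq {l F : Subgroup G} (hl : ∀ a ∈ l, a ^ 2 = 1) (hc : NX l F ≤ centralizer (NX l F : Set G)) :
    ∀ b ∈ NX l F, b ^ 2 = 1 := by
  let K : Subgroup G :=
    { carrier := {b | b ∈ NX l F ∧ b ^ 2 = 1}
      one_mem' := ⟨one_mem _, one_pow _⟩
      mul_mem' := by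
        rintro a b ⟨ha, ha2⟩ ⟨hb, hb2⟩
        refine ⟨mul_mem ha hb, ?_⟩
        have hcm : Commute a b := (mem_centralizer_iff.1 (hc ha) b hb).symm
        rw [hcm.mul_pow, ha2, hb2, one_mul]
      inv_mem' := by
        rintro a ⟨ha, ha2⟩
        exact ⟨inv_mem ha, by rw [inv_pow, ha2, inv_one]⟩ }
  have h1 : NX l F ≤ K := by
    refine V_le fun x hx b hb => ⟨Z_le_V hx hb, ?_⟩
    rw [mem_conj] at hb
    have e : b ^ 2 = x * (x⁻¹ * b * x) ^ 2 * x⁻¹ := by rw [pow_two, pow_two]; group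
    rw [e, hl _ hb]; group
  exact fun b hb => (h1 hb).2

section base

variable {V F B : Subgroup G}

theorem AC_le_W : AC V F B ≤ WW V F := inf_le_left

theorem AC_le_C : AC V F B ≤ centralizer (B : Set G) := inf_le_right

theorem conj_AC {m : G} (hm : m ∈ normalizer (V : Set G)) :
    MulAut.conj m • AC V F B = AC V (MulAut.conj m • F) (MulAut.conj m • B) := by
  rw [AC, AC, Subgroup.smul_inf, NOne.Flat.WW_conj hm, NOne.Flat.conj_centralizer]

end base

namespace St

variable [Finite G] {S : Sylow 2 G} {M V F B : Subgroup G} (h : St S M V F B)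
include h

/-- `B ≤ C_W(B)` -/
theorem B_le : B ≤ AC V F B := le_inf h.BW h.comm

theorem X_norm_A : centralizer (F : Set G) ≤ normalizer (AC V F B : Set G) := by
  intro x hx
  have h1 : MulAut.conj x • AC V F B = AC V F B := by
    rw [AC, Subgroup.smul_inf, NOne.Flat.Hyp.conj_W hx, NOne.Flat.conj_centralizer, conj_eq_of_mem (h.XB hx)]
  rw [ChoiceBase.mem_normalizer_iff_cj]
  exact h1

/-- a subgroup of `W` centralising `B`: its `X`-conjugates also -/
theorem conj_le_A {l : Subgroup G} (hE : l ≤ EE V F) (hc : l ≤ centralizer (B : Set G)) {x : G}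
    (hx : x ∈ centralizer (F : Set G)) : MulAut.conj x • l ≤ AC V F B := by
  refine le_inf ((conj_le_iff.2 hE).trans (NOne.Flat.Hyp.conjE_le_W hx)) ?_
  have h1 := conj_le_centralizer (g := x) hc
  rwa [conj_eq_of_mem (h.XB hx)] at h1

/-- the start -/
theorem _root_.Cfsg.Agent.Omega.NOThreeL.RLev.Hat.st_self {V F : Subgroup G} (hyp : Hyp V F) :
    St S M V F F where
  hyp := hyp
  FB := le_rfl
  BW := hyp.F_le_E.trans (by
    have := NOne.Flat.Hyp.conjE_le_W (V := V) (F := F) (one_mem (centralizer (F : Set G)))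
    rwa [map_one, one_smul] at this)
  XB := centralizer_le_normalizer _
  comm := hyp.F_le_V.trans hyp.V_le_X
  sq := fun b hb => hyp.sq b (hyp.F_le_V hb)
  inv := by
    intro m _ P _ hE _
    exact (hE.trans inf_le_left).trans hyp.V_le_X

/-- conjugation by `m ∈ M` -/
theorem conj (hMV : M ≤ normalizer (V : Set G)) {g : G} (hg : g ∈ M) :
    St S M V (MulAut.conj g • F) (MulAut.conj g • B) where
  hyp := h.hyp.conj (hMV hg)
  FB := conj_le_iff.2 h.FB
  BW := by
    rw [← NOne.Flat.WW_conj (hMV hg)]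
    exact conj_le_iff.2 h.BW
  XB := by
    rw [← NOne.Flat.conj_centralizer]
    exact conj_le_normalizer h.XB
  comm := conj_le_centralizer h.comm
  sq := by
    intro b hb
    rw [mem_conj] at hb
    have e : b ^ 2 = g * (g⁻¹ * b * g) ^ 2 * g⁻¹ := by rw [pow_two, pow_two]; group
    rw [e, h.sq _ hb]; group
  inv := by
    intro m hm P hP hE hB
    have h1 := h.inv (g⁻¹ * m) (mul_mem (inv_mem hg) hm) P hP (by
      rw [← conj_conj]
      have h2 := conj_le_iff (g := g⁻¹).2 hE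
      rwa [← NOne.Flat.EE_conj (hMV hg), conj_inv_conj] at h2) (by
      rw [← conj_conj]
      have h2 := conj_le_iff (g := g⁻¹).2 hB
      rwa [conj_inv_conj] at h2)
    have h2 := conj_le_centralizer (g := g) h1
    rwa [← conj_conj, conj_conj_inv] at h2

/-- **ENLARGE** (#26533 (3)). -/
theorem enlarge (hc : IsCharacteristicTwoType G) (hm : ¬ FF (S : Subgroup G))
    (hA : AC V F B ≤ (S : Subgroup G)) (h1M : (1 : G) ∈ M) {P : Subgroup G}
    (hP : IsParS (S : Subgroup G) P) (hl : zl (S : Subgroup G) P ≤ EE V F) :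
    St S M V F (B ⊔ NX (zl (S : Subgroup G) P) F) := by
  have sys : Sys (S : Subgroup G) (zc (S : Subgroup G)) (PS (S : Subgroup G)) := FrameNOFF.sys hc S hm
  have hlB : zl (S : Subgroup G) P ≤ centralizer (B : Set G) := by
    have h1 := h.inv 1 h1M P hP (by rwa [map_one, one_smul]) (by
      rw [map_one, one_smul]; exact h.B_le.trans hA)
    rwa [map_one, one_smul] at h1
  have hlA : ∀ x ∈ centralizer (F : Set G), MulAut.conj x • zl (S : Subgroup G) P ≤ AC V F B :=
    fun x hx => h.conj_le_A hl hlB hx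
  have hlP : ∀ x ∈ centralizer (F : Set G), MulAut.conj x • zl (S : Subgroup G) P ≤ P :=
    fun x hx => ((hlA x hx).trans hA).trans hP.le
  have hll : ∀ x ∈ centralizer (F : Set G),
      MulAut.conj x • zl (S : Subgroup G) P ≤ centralizer (zl (S : Subgroup G) P : Set G) := by
    intro x hx
    have h1 := sys.noff' (g := x) (h := 1) hP hP (by rw [map_one, one_smul]; exact hlP x hx) (by
      rw [map_one, one_smul]
      have h2 := conj_le_iff (g := x).2 (hlP x⁻¹ (inv_mem hx))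
      rw [conj_conj_inv] at h2
      exact h2)
    rwa [map_one, one_smul] at h1
  have hNB : NX (zl (S : Subgroup G) P) F ≤ centralizer (B : Set G) :=
    V_le fun x hx => (hlA x hx).trans AC_le_C
  have hNN : NX (zl (S : Subgroup G) P) F ≤ centralizer (NX (zl (S : Subgroup G) P) F : Set G) := by
    refine V_le fun x hx => comm_symm (V_le fun y hy => ?_)
    have h1 := hll (x⁻¹ * y) (mul_mem (inv_mem hx) hy)
    have h2 := conj_le_centralizer (g := x) h1
    rwa [← conj_conj, conj_conj_inv] at h2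
  have hls : ∀ a ∈ zl (S : Subgroup G) P, a ^ 2 = 1 := fun a ha => h.hyp.sq a (hl ha).1
  refine
    { hyp := h.hyp
      FB := h.FB.trans le_sup_left
      BW := sup_le h.BW (V_le fun x hx => (hlA x hx).trans AC_le_W)
      XB := NO3b.Bang.le_normalizer_sup h.XB (le_norm_V _ _)
      comm := ?_
      sq := ?_
      inv := ?_ }
  · refine sup_le (comm_symm (sup_le h.comm hNB)) (comm_symm (sup_le (comm_symm hNB) hNN))
  · exact sup_sq h.sq (NX_sq hls hNN) (comm_symm hNB)
  · intro m hm Q hQ hE hB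
    have h1 := h.inv m hm Q hQ hE (le_sup_left.trans hB)
    have h2 : ∀ x ∈ centralizer (F : Set G), MulAut.conj x • (MulAut.conj m • zl (S : Subgroup G) Q) ≤ P :=
      fun x hx => ((h.conj_le_A hE h1 hx).trans hA).trans hP.le
    refine comm_symm (sup_le (comm_symm h1) (V_le fun x hx => ?_))
    refine sys.noff' (g := x) (h := m) hP hQ ?_ ?_
    · exact (Z_le_V hx).trans ((le_sup_right.trans hB).trans (conj_le_iff.2 hQ.le))
    · have h3 := conj_le_iff (g := x).2 (h2 x⁻¹ (inv_mem hx))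
      rwa [conj_conj_inv] at h3

/-- `C_W(B)` moves `V` (#26533 (4)). -/
theorem moves : ¬ AC V F B ≤ centralizer (V : Set G) := by
  intro h1
  have h2 : B ≤ centralizer (V : Set G) := h.B_le.trans h1
  have h3 : WW V F ≤ centralizer (B : Set G) := by
    refine V_le fun x hx => ?_
    have h4 := conj_le_centralizer (g := x) (comm_symm h2)
    rw [conj_eq_of_mem (h.XB hx)] at h4
    exact (conj_le_iff.2 inf_le_left).trans h4
  exact NO3b.Union.not_WW_le h.hyp ((le_inf le_rfl h3).trans h1)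

/-- `C_V(B) ≤ E` if `V ∩ B > F` (#26533 (6)). -/
theorem cent_le (hgt : ¬ V ⊓ B ≤ F) : V ⊓ centralizer (B : Set G) ≤ EE V F := by
  set I : Subgroup G := V ⊓ B with hI
  have hFI : F ≤ I := le_inf h.hyp.F_le_V h.FB
  have hI1 : V ≤ o2 (centralizer (I : Set G)) := by
    by_contra hn
    have h1 := h.hyp.max I ⟨fun h0 => hgt (h0 ▸ bot_le), inf_le_left, hn⟩ hFI
    exact hgt h1.le
  -- `C_X(B)`
  set D : Subgroup G := centralizer (F : Set G) ⊓ centralizer (B : Set G) with hD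
  have hDI : D ≤ centralizer (I : Set G) := inf_le_right.trans (centralizer_le inf_le_right)
  have hDn : centralizer (F : Set G) ≤ normalizer (D : Set G) := by
    intro x hx
    have h1 : MulAut.conj x • D = D := by
      rw [hD, Subgroup.smul_inf, NOne.Flat.conj_centralizer, NOne.Flat.conj_eq_of_cent hx,
        NOne.Flat.conj_centralizer, conj_eq_of_mem (h.XB hx)]
    rw [ChoiceBase.mem_normalizer_iff_cj]
    exact h1
  intro v hv
  have hvX : v ∈ centralizer (F : Set G) := h.hyp.V_le_X hv.1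
  have h2 : v ∈ o2 (centralizer (I : Set G)) ⊓ D := ⟨hI1 hv.1, hvX, hv.2⟩
  have h3 : o2 (centralizer (I : Set G)) ⊓ D ≤ o2 D := by
    refine le_o2 inf_le_right ((o2_isPGroup _).to_le inf_le_left) ?_
    intro d hd
    have h4 : MulAut.conj d • (o2 (centralizer (I : Set G)) ⊓ D) = o2 (centralizer (I : Set G)) ⊓ D := by
      rw [Subgroup.smul_inf, conj_eq_of_mem (le_normalizer_o2 _ (hDI hd)),
        conj_eq_of_mem (Subgroup.le_normalizer hd)]
    rw [ChoiceBase.mem_normalizer_iff_cj]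
    exact h4
  have h5 : o2 D ≤ o2 (centralizer (F : Set G)) := by
    refine le_o2 ((ZN.o2_le D).trans inf_le_left) (o2_isPGroup _) ?_
    intro x hx
    have h4 : MulAut.conj x • o2 D = o2 D := by
      rw [NOne.Flat.o2_conj, conj_eq_of_mem (hDn hx)]
    rw [ChoiceBase.mem_normalizer_iff_cj]
    exact h4
  exact ⟨hv.1, h5 (h3 h2)⟩

/-- **The situation** (#26533 (7)). -/
theorem sit (hG : Ctx G) (D : Data (S : Subgroup G)) (notA : ¬ CaseA (S : Subgroup G))
    (hA : AC V F B ≤ (S : Subgroup G)) (hgt : ¬ V ⊓ B ≤ F) (hVS : V ≤ (S : Subgroup G))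
    (hZV : zc (S : Subgroup G) ≤ V) (hLV : ∀ Q, IsParS (S : Subgroup G) Q → zl (S : Subgroup G) Q ≤ V)
    (hgood : ∀ Q, IsParS (S : Subgroup G) Q → zl (S : Subgroup G) Q ≤ EE V F → zl (S : Subgroup G) Q ≤ B)
    {P : Subgroup G} (hP : IsParS (S : Subgroup G) P) (hbad : ¬ zl (S : Subgroup G) P ≤ EE V F)
    (hc : 2 < Nat.card (zc (S : Subgroup G))) :
    SitG {Q | IsParS (S : Subgroup G) Q} S V F (zc (AC V F B)) P := by
  have hZS : (S : Subgroup G) ≤ centralizer (zc (S : Subgroup G) : Set G) := fun s hs =>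
    mem_centralizer_iff.2 fun z hz => ((mem_zc.1 hz).2.1 s hs).symm
  have hBA : B ≤ zc (AC V F B) := fun b hb =>
    mem_zc.2 ⟨h.B_le hb, fun a ha => (mem_centralizer_iff.1 (AC_le_C ha) b hb).symm, h.sq b hb⟩
  have hZA : zc (S : Subgroup G) ≤ zc (AC V F B) := by
    intro z hz
    have h1 : z ∈ centralizer (B : Set G) := comm_symm ((h.B_le.trans hA).trans hZS) hz
    have h2 : z ∈ EE V F := h.cent_le hgt ⟨hZV hz, h1⟩
    have h3 : z ∈ WW V F := by
      have h4 := NOne.Flat.Hyp.conjE_le_W (V := V) (F := F) (one_mem (centralizer (F : Set G)))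
      rw [map_one, one_smul] at h4
      exact h4 h2
    exact mem_zc.2 ⟨⟨h3, h1⟩, fun a ha => (mem_zc.1 hz).2.1 a (hA ha), (mem_zc.1 hz).2.2⟩
  have hpt : ∀ Q, IsParS (S : Subgroup G) Q → ¬ zl (S : Subgroup G) Q ≤ EE V F → ∀ g ∈ Q,
      MulAut.conj g • zc (S : Subgroup G) ⊓ F = ⊥ := by
    intro Q hQ hQE g hg
    by_contra hne
    exact hQE (good_of_ne D notA h.hyp hQ (hLV Q hQ) hg hne)
  have hzA : zc (AC V F B) ≤ AC V F B := ZN.zc_le _
  refine ⟨⟨hG, D, notA, h.hyp, hVS, hP, hLV P hP, hbad, h.FB.trans hBA, hzA.trans AC_le_W,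
    h.X_norm_A.trans (ZN.normalizer_le_normalizer_zc _), ?_, fun b hb => zc_sq _ b hb, hzA.trans hA, ?_, hZA,
    hpt P hP hbad, hc⟩, fun Q hQ => hLV Q hQ, fun Q hQ hE => (hgood Q hQ hE).trans hBA, fun Q hQ => hpt Q hQ⟩
  · intro x hx
    rw [mem_centralizer_iff]
    intro y hy
    exact zc_comm _ _ hy _ hx
  · exact (inf_le_inf_left _ (centralizer_le hBA)).trans hA

end St

end Cfsg.Agent.Omega.NOThreeL.RLev.Hat

end

-- merged: Cfsg.Agent.Mrg.Omega.NOThreeL.RLev.HatLow
section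

/-!
# Box R: the front without galleries (helper492 #26533), part 2: `V^ ≤ O₂(C_G(Z))`

`Hat.low : Hat S M V → (∃ R, IsParS S R ∧ zc S ⊓ C(R) ≠ ⊥) → V ≤ o2 (CZ S)`.

If not: a maximal bad `F` of `V` with `W_F ≤ S`; the lines `V_P` (`P ∈ P*(S)`) have `Z ≤ V ∩ C(W_F) = F`, hence are
good; `F⟨V_P^X⟩` is a state with `V ∩ B > F` if `W_F` moves `V_P`.  Take such a state with `|B|` maximal; PRINCIPLE'
gives a conjugate with `C_W(B) ≤ S` which moves some `V_P`, which is bad by ENLARGE: `SitG`.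
-/

set_option autoImplicit false
set_option linter.unusedSectionVars false

namespace Cfsg.Agent.Omega.NOThreeL.RLev

open Subgroup Cfsg
open Cfsg.Agent.ZN hiding mem_zc le_o2 le_normalizer_o2 zl_le
open Cfsg.Agent.Omega.MinPar Cfsg.Agent.Omega.Frame
open Cfsg.Agent.Omega.FrameNOFF
open Cfsg.Agent.Omega.NoFF.Basic (conj_conj mem_conj conj_le_iff conj_le_centralizer comm_symm comm_mono
  Z_le_V V_le Sys)
open Cfsg.Agent.Omega.NOne.Flat (EE WW Hyp Bad)
open Cfsg.Agent.Omega.NOThreeL.Basic (CaseA)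
open Cfsg.Agent.Omega.NOThreeL.Pair (conj_eq_of_mem conj_le_normalizer)
open Cfsg.Agent.Omega.Node.NO3L
open Cfsg.Agent.ZN.ChoiceBase (cj isPGroup_cj)
open Cfsg.Agent.Omega.NOThreeL.RLow (SitG good_of_ne card_zc sit_false parts)
open Cfsg.Agent.Omega.NOThreeL.RLev.Hat (AC NX St)
open Cfsg.Agent.MinSimple.VModule (zc_le_zl zc_le zl_le_zc zl_le o2_isPGroup le_normalizer_o2 le_normalizer_zl
  mem_zc le_o2 o2_le le_centralizer_zc zc_sq zc_comm normalizer_le_normalizer_zc)
open scoped Pointwise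

universe u

variable {G : Type u} [Group G] [Finite G] {S : Sylow 2 G} {M V : Subgroup G}

/-- the start -/
theorem st_start {F : Subgroup G} (hyp : Hyp V F) : St S M V F F where
  hyp := hyp
  FB := le_rfl
  BW := hyp.F_le_E.trans (by
    have := NOne.Flat.Hyp.conjE_le_W (V := V) (F := F) (one_mem (centralizer (F : Set G)))
    rwa [map_one, one_smul] at this)
  XB := centralizer_le_normalizer _
  comm := hyp.F_le_V.trans hyp.V_le_X
  sq := fun b hb => hyp.sq b (hyp.F_le_V hb)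
  inv := by
    intro m _ P _ hE _
    exact (hE.trans inf_le_left).trans hyp.V_le_X

namespace Hat

variable (h : Hat S M V)
include h

theorem MV : M ≤ normalizer (V : Set G) := by
  rw [h.eqV]
  exact MinSimple.VModule.le_normalizer_zl _ _

theorem SM : (S : Subgroup G) ≤ M := by
  have h1 := h.root.S_le
  rwa [h.eqM] at h1

theorem ZV : zc (S : Subgroup G) ≤ V := by
  rw [h.eqV]
  exact zc_le_zl _ _

theorem LV {Q : Subgroup G} (hQ : IsParS (S : Subgroup G) Q) : zl (S : Subgroup G) Q ≤ V :=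
  zl_le h.ZV (((NOThreeL.Star.le_YS hQ).trans h.YM).trans h.MV)

/-- PRINCIPLE' for the groups `C_W(B)` -/
theorem push {F B : Subgroup G} (s : St S M V F B) (hA : AC V F B ≤ (S : Subgroup G)) :
    ∃ F' B', St S M V F' B' ∧ AC V F' B' ≤ (S : Subgroup G) ∧ Nat.card B' = Nat.card B ∧
      (¬ V ⊓ B ≤ F → ¬ V ⊓ B' ≤ F') ∧ (∃ m ∈ M, F' = MulAut.conj m • F ∧ B' = MulAut.conj m • B) ∧
      ∃ P, IsParS (S : Subgroup G) P ∧ ¬ AC V F' B' ≤ centralizer (zl (S : Subgroup G) P : Set G) := by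
  obtain ⟨A', ⟨m, hm, rfl⟩, hS, P, hP, hmv⟩ := h.prin {A | ∃ m ∈ M, A = cj m (AC V F B)}
    (by
      rintro _ ⟨m, hm, rfl⟩ n hn
      refine ⟨n * m, mul_mem hn hm, ?_⟩
      exact ChoiceBase.cj_cj _ _ _)
    (by
      rintro _ ⟨m, hm, rfl⟩
      refine ⟨?_, isPGroup_cj m (S.isPGroup'.to_le hA)⟩
      have h1 : MulAut.conj m • AC V F B ≤ MulAut.conj m • M := conj_le_iff.2 (hA.trans h.SM)
      rw [conj_eq_of_mem (Subgroup.le_normalizer hm)] at h1
      exact h1)
    ⟨AC V F B, ⟨1, one_mem _, by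
      change _ = MulAut.conj (1 : G) • AC V F B
      rw [map_one, one_smul]⟩, hA, s.moves⟩
  have e : cj m (AC V F B) = AC V (MulAut.conj m • F) (MulAut.conj m • B) := Hat.conj_AC (h.MV hm)
  rw [e] at hS hmv
  refine ⟨MulAut.conj m • F, MulAut.conj m • B, s.conj h.MV hm, hS, ?_, ?_, ⟨m, hm, rfl, rfl⟩, P, hP, hmv⟩
  · exact Subgroup.card_map_of_injective (MulAut.conj m).injective
  · intro h1 h2
    apply h1
    have h3 := conj_le_iff (g := m⁻¹).2 h2
    rw [Subgroup.smul_inf, Hat.conj_inv_conj, Hat.conj_inv_conj, conj_eq_of_mem (h.MV (inv_mem hm))] at h3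
    exact h3

/-- **THEOREM** (#26533): `V^ ≤ O₂(C_G(Z))`. -/
theorem low (hR : ∃ R, IsParS (S : Subgroup G) R ∧ zc (S : Subgroup G) ⊓ centralizer (R : Set G) ≠ ⊥) :
    V ≤ o2 (CZ (S : Subgroup G)) := by
  by_contra hn
  have h2 : 2 < Nat.card (zc (S : Subgroup G)) := by
    obtain ⟨R, hR, hz⟩ := hR
    exact card_zc hR hz
  have hzne : zc (S : Subgroup G) ≠ ⊥ := Low.zc_ne_bot h.ctx
  have hZS : (S : Subgroup G) ≤ centralizer (zc (S : Subgroup G) : Set G) := fun s hs =>
    mem_centralizer_iff.2 fun z hz => ((mem_zc.1 hz).2.1 s hs).symm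
  -- the start
  have h0 : ∃ F, Hyp V F ∧ WW V F ≤ (S : Subgroup G) := by
    have h3 := Low.exists_max_bad h.root h.ctx.char2 (F₀ := zc (S : Subgroup G)) (by
      rw [h.VL]
      exact ⟨hzne, h.ZV, hn⟩)
    rw [h.VL] at h3
    obtain ⟨F, hF, hW, -⟩ := h3
    exact ⟨F, hF, hW⟩
  obtain ⟨F, hF, hW⟩ := h0
  have hAF : AC V F F ≤ (S : Subgroup G) := inf_le_left.trans hW
  obtain ⟨F, B, s, hA, -, -, ⟨m, hm, rfl, rfl⟩, P, hP, hmv⟩ := h.push (st_start hF) hAF
  set F := MulAut.conj m • F with hFdef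
  have hWS : WW V F ≤ (S : Subgroup G) := by
    refine le_trans (le_inf le_rfl ?_) hA
    exact NOne.Flat.Hyp.W_le_X
  have hZF : zc (S : Subgroup G) ≤ F := by
    rw [← s.hyp.cent_VW]
    exact le_inf h.ZV (comm_symm (hWS.trans hZS))
  have hgood : zl (S : Subgroup G) P ≤ EE V F := by
    refine good_of_ne h.D h.notA s.hyp hP (h.LV hP) (g := 1) (one_mem _) ?_
    rw [map_one, one_smul, inf_eq_left.2 hZF]
    exact hzne
  have s1 := s.enlarge h.ctx.char2 h.D.noff hA (one_mem _) hP hgood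
  have hUB : zl (S : Subgroup G) P ≤ F ⊔ NX (zl (S : Subgroup G) P) F := by
    have h3 := Z_le_V (Z := zl (S : Subgroup G) P) (one_mem (centralizer (F : Set G)))
    rw [map_one, one_smul] at h3
    exact h3.trans le_sup_right
  have hne1 : ¬ V ⊓ (F ⊔ NX (zl (S : Subgroup G) P) F) ≤ F := by
    intro h3
    apply hmv
    refine AC_le_C.trans (centralizer_le ?_)
    exact (le_inf (h.LV hP) hUB).trans h3
  have hanti : ∀ {F B B' : Subgroup G}, B ≤ B' → AC V F B' ≤ AC V F B := fun hle =>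
    inf_le_inf_left _ (centralizer_le hle)
  -- a maximal state
  obtain ⟨⟨F₁, B₁⟩, ⟨t1, t2, t3⟩, hmax⟩ := Set.exists_max_image
    {q : Subgroup G × Subgroup G | St S M V q.1 q.2 ∧ AC V q.1 q.2 ≤ (S : Subgroup G) ∧ ¬ V ⊓ q.2 ≤ q.1}
    (fun q => Nat.card q.2) (Set.toFinite _)
    ⟨(F, F ⊔ NX (zl (S : Subgroup G) P) F), s1, (hanti le_sup_left).trans hA, hne1⟩
  dsimp only at t1 t2 t3 hmax
  obtain ⟨F₂, B₂, u, uA, ucard, une, -, Q, hQ, hQm⟩ := h.push t1 t2
  have une' := une t3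
  -- ENLARGE gives nothing new
  have key : ∀ R, IsParS (S : Subgroup G) R → zl (S : Subgroup G) R ≤ EE V F₂ →
      zl (S : Subgroup G) R ≤ B₂ := by
    intro R hR' hRE
    have u1 := u.enlarge h.ctx.char2 h.D.noff uA (one_mem _) hR' hRE
    have h3 := hmax (F₂, B₂ ⊔ NX (zl (S : Subgroup G) R) F₂)
      ⟨u1, (hanti le_sup_left).trans uA, fun h4 => une' ((inf_le_inf_left _ le_sup_left).trans h4)⟩
    dsimp only at h3
    rw [← ucard] at h3
    have h4 : B₂ = B₂ ⊔ NX (zl (S : Subgroup G) R) F₂ := eq_of_le_of_card_ge le_sup_left h3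
    rw [h4]
    have h5 := Z_le_V (Z := zl (S : Subgroup G) R) (one_mem (centralizer (F₂ : Set G)))
    rw [map_one, one_smul] at h5
    exact h5.trans le_sup_right
  have hbad : ¬ zl (S : Subgroup G) Q ≤ EE V F₂ := fun hE =>
    hQm (AC_le_C.trans (centralizer_le (key Q hQ hE)))
  exact sit_false parts (u.sit h.ctx h.D h.notA uA une' h.nn.le h.ZV (fun _ hR' => h.LV hR') key hQ hbad h2) hR

end Hat

end Cfsg.Agent.Omega.NOThreeL.RLev

end

-- merged: Cfsg.Agent.Mrg.Omega.NOThreeL.RLev.ExistsLev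
section

section


/-!
# Box R of NO-3L: some level moves `V*` (helper492 #26533, helper812, helper319)

* **`exists_levX`** : box R, `V*` FF: `J(S)` moves `V* = Wd S`, or `nxtX S X` does, for some level `(K, X)` over `V*`;
* `exists_lev_wc` : the same with more information: `K`, `nxtX S X` weakly closed in `S`, `Y ≤ N_G(K)`.
-/

set_option autoImplicit false

namespace Cfsg.Agent.Omega.NOThreeL.RLev

open Subgroup Cfsg Cfsg.Agent.Omega.MinPar Cfsg.Agent.Omega.Frame Cfsg.Agent.Omega.FrameNOFF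
open Cfsg.Agent.ZN (o2 zc zl jj)
open Cfsg.Agent.Omega.NO3b.Wc (WC)
open Cfsg.Agent.Omega.NO3S.Level (Lev)
open Cfsg.Agent.Omega.NOThreeL.Merge (MZ)
open Cfsg.Agent.Omega.NOThreeL.Star (YS)
open Cfsg.Agent.Omega.NOThreeL.RTreeF (RBF)
open Cfsg.Agent.Omega.NOThreeL.RRed (Wd)
open Cfsg.Agent.Omega.NO3b.EndX (AbsP)
open Cfsg.Agent.Omega.ML.Final (MLK)

universe u

variable {G : Type u} [Group G] [Finite G] {S : Sylow 2 G}

/-- **Some level moves `V*`.** -/
theorem exists_lev_wc (ml : MLK.{u, u}) (ha : AbsP.{u, u}) (h : RBF S) :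
    ¬ jj (S : Subgroup G) ≤ centralizer (zl (S : Subgroup G) (YS (S : Subgroup G)) : Set G) ∨
    ∃ K X : Subgroup G, Lev (S : Subgroup G) K ∧ X ≤ zc K ∧ normalizer (K : Set G) ≤ normalizer (X : Set G) ∧
      zl (S : Subgroup G) (YS (S : Subgroup G)) ≤ X ∧ YS (S : Subgroup G) ≤ normalizer (K : Set G) ∧
      WC (S : Subgroup G) K ∧ WC (S : Subgroup G) (nxtX (S : Subgroup G) X) ∧
      ¬ nxtX (S : Subgroup G) X ≤ centralizer (zl (S : Subgroup G) (YS (S : Subgroup G)) : Set G) :=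
  exists_levX_of h (fun _ r => NO3b.BasePt.false_of_nfRoot h.ctx ml ha r) fun _ _ H => H.low h.ex

/-- **Some level moves `V*`.** -/
theorem exists_levX (ml : MLK.{u, u}) (ha : AbsP.{u, u}) (h : RBF S) :
    ¬ jj (S : Subgroup G) ≤ centralizer (Wd (S : Subgroup G) : Set G) ∨
      ∃ K X, RRed.FourTree.LevX (S : Subgroup G) K X ∧
        ¬ RRed.FourTree.nxtX (S : Subgroup G) X ≤ centralizer (Wd (S : Subgroup G) : Set G) := by
  rcases exists_lev_wc ml ha h with h1 | ⟨K, X, h1, h2, h3, h4, h5, -, -, h6⟩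
  · exact Or.inl h1
  · exact Or.inr ⟨K, X, { toLev := h1, Xle := h2, Xn := h3, VX := h4, MX := h5.trans h3 }, h6⟩

end Cfsg.Agent.Omega.NOThreeL.RLev

end

section


/-!
# Box R of NO-3L: the level `(W^, V^)` moves `V*`

`W^` = the LARGEST weakly closed subgroup of `S` in `C_S(V*)`, `V^ = ⟨Z^{N(W^)}⟩`.

* `TopLev S K X` : `K = W^`, `V* ≤ X ≤ Ω₁(Z(K))`, with all fields; `HatLev S K X` : the same with `X = V^`;
* **`exists_hatLev`** : box R: `J(S)` moves `V*`, or `HatLev S K X` for some `(K, X)`;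
* `prinW` : PRINCIPLE' of helper492 with `J(S) ≤ C(V*)` only (no condition on the offenders of `S` on `V^`);
* `TopLev.levX` : `FourTree.LevX S K X`;
* `topLev_of` : `TopLev S W^ X` for every `X` between `V*` and `Ω₁(Z(W^))` with `N(W^) ≤ N(X)`, moved by `nxtX S X`.
-/

set_option autoImplicit false
set_option linter.unusedSectionVars false

namespace Cfsg.Agent.Omega.NOThreeL.RLev

open Subgroup Cfsg Cfsg.Agent.Omega.MinPar Cfsg.Agent.Omega.Frame Cfsg.Agent.Omega.FrameNOFF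
open Cfsg.Agent.ZN (o2 zc zl jj)
open Cfsg.Agent.ZN.ChoiceBase hiding mem_zc
open Cfsg.Agent.Omega.Node.NO3L Cfsg.Agent.Omega.NOThreeL.Basic
open Cfsg.Agent.Omega.NO3b.Bang
open Cfsg.Agent.Omega.NO3b.Wc (WC WH ML VL QL cj_sSup wc_WH WH_le WH_le_S le_WH mem_ML_of_le ML_le_norm_V)
open Cfsg.Agent.Omega.NOThreeL.Star (YS le_YS S_le_YS)
open Cfsg.Agent.Omega.NO3S.Level (Lev)
open Cfsg.Agent.Omega.NOThreeL.RTreeF (RBF)
open Cfsg.Agent.Omega.NOThreeL.RRed (Wd)
open Cfsg.Agent.Omega.NO3b.EndX (AbsP)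
open Cfsg.Agent.Omega.ML.Final (MLK)
open Cfsg.Agent.MinSimple.VModule (zc_le le_normalizer_o2 le_normalizer_zl zc_le_zl zl_le o2_isPGroup
  o2_le le_o2 zc_sq mem_zc normalizer_le_normalizer_zc)

universe u

variable {G : Type u} [Group G] [Finite G] {S : Sylow 2 G}

/-- `K = W^` the largest weakly closed subgroup of `S` in `C_S(V*)`, `V* ≤ X ≤ Ω₁(Z(K))` normalised by `N(K)`
(`X = V^ = ⟨Z^{N(K)}⟩` or `X = Ω₁(Z(K))`), `nxtX S X` moves `V*`. -/
structure TopLev (S : Sylow 2 G) (K X : Subgroup G) : Prop where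
  toLev : Lev (S : Subgroup G) K
  wc : WC (S : Subgroup G) K
  /-- `K ≤ C(V*)` -/
  cent : K ≤ centralizer (zl (S : Subgroup G) (YS (S : Subgroup G)) : Set G)
  /-- `K` is the largest one -/
  max : ∀ D : Subgroup G, WC (S : Subgroup G) D →
    D ≤ centralizer (zl (S : Subgroup G) (YS (S : Subgroup G)) : Set G) → D ≤ K
  eqK : K = WH (S : Subgroup G) (YS (S : Subgroup G))
  Xle : X ≤ zc K
  Xn : normalizer (K : Set G) ≤ normalizer (X : Set G)
  /-- `V* ≤ X` -/
  VX : zl (S : Subgroup G) (YS (S : Subgroup G)) ≤ X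
  /-- `Y = ⟨P*(S)⟩ ≤ N(K)` -/
  YK : YS (S : Subgroup G) ≤ normalizer (K : Set G)
  wcn : WC (S : Subgroup G) (nxtX (S : Subgroup G) X)
  mv : ¬ nxtX (S : Subgroup G) X ≤ centralizer (zl (S : Subgroup G) (YS (S : Subgroup G)) : Set G)

/-- `TopLev` with `X = V^ = ⟨Z^{N(K)}⟩` -/
structure HatLev (S : Sylow 2 G) (K X : Subgroup G) : Prop extends TopLev S K X where
  eqX : X = zl (S : Subgroup G) (normalizer (K : Set G))

theorem TopLev.levX {K X : Subgroup G} (h : TopLev S K X) : RRed.FourTree.LevX (S : Subgroup G) K X :=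
  { toLev := h.toLev, Xle := h.Xle, Xn := h.Xn, VX := h.VX, MX := h.YK.trans h.Xn }

/-- **The level `(W^, V^)`.** -/
theorem exists_hatLev (ml : MLK.{u, u}) (ha : AbsP.{u, u}) (h : RBF S) :
    ¬ jj (S : Subgroup G) ≤ centralizer (zl (S : Subgroup G) (YS (S : Subgroup G)) : Set G) ∨
    ∃ K X : Subgroup G, HatLev S K X := by
  by_cases hj : jj (S : Subgroup G) ≤ centralizer (zl (S : Subgroup G) (YS (S : Subgroup G)) : Set G)
  · right
    by_cases hn : nxtX (S : Subgroup G) (VL (S : Subgroup G) (YS (S : Subgroup G))) ≤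
        centralizer (zl (S : Subgroup G) (YS (S : Subgroup G)) : Set G)
    · exfalso
      have H := hat_of hj hn h
      have hSM : (S : Subgroup G) ≤ ML (S : Subgroup G) (YS (S : Subgroup G)) := H.root.le
      have hZ : zc (S : Subgroup G) ≠ ⊥ := MinSimple.Basic.zc_ne_bot S.isPGroup' (h.ctx.sylow_ne_bot S)
      refine NO3b.BasePt.false_of_nfRoot h.ctx ml ha
        (nfRoot_of (M := ML (S : Subgroup G) (YS (S : Subgroup G))) hSM (nn_V hj hn) hZ (H.low h.ex) ?_)
      intro U hU h2 h3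
      exact eq_bot_of_norm h.ctx S h.full hU (fun P hP => (le_YS hP).trans (ys_le_M.trans h2)) h3
    · exact ⟨WH (S : Subgroup G) (YS (S : Subgroup G)), VL (S : Subgroup G) (YS (S : Subgroup G)),
        { toLev := lev_W hj
          wc := wc_WH _ _
          cent := (WH_le _ _).trans inf_le_right
          max := fun D h1 h2 => le_WH h1 (le_inf h1.le h2)
          eqK := rfl
          eqX := rfl
          Xle := V_le_zcW hj
          Xn := le_normalizer_zl _ _
          VX := vs_le_V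
          YK := ys_le_M
          wcn := nxt_wc hj
          mv := hn }⟩
  · exact Or.inl hj

namespace TopLev

variable {K X : Subgroup G} (h : TopLev S K X)
include h

theorem le_S : K ≤ (S : Subgroup G) := h.wc.le

/-- `K ≤ C(X)` -/
theorem centX : K ≤ centralizer (X : Set G) :=
  cent_symm (h.Xle.trans fun _ hx => mem_centralizer_iff.2 fun y hy => (mem_zc.1 hx).2.1 y hy)

/-- A subgroup of `S` above `K` which is `N(K)`-closed in `S` is weakly closed. -/
theorem wc_of {D : Subgroup G} (hKD : K ≤ D) (hD : D ≤ (S : Subgroup G))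
    (hc : ∀ g ∈ normalizer (K : Set G), cj g D ≤ (S : Subgroup G) → cj g D ≤ D) : WC (S : Subgroup G) D := by
  refine ⟨hD, fun g hg => ?_⟩
  have h1 : cj g K = K := h.wc.eq g ((cj_mono g hKD).trans hg)
  exact Subgroup.eq_of_le_of_card_ge (hc g (by rw [mem_normalizer_iff_cj]; exact h1) hg) (card_cj _ _).ge

/-- **PRINCIPLE'**: an `N(K)`-invariant family of subgroups with a member in `S` moving `X`
has a member in `S` which moves some `V_P`, `P ∈ P*(S)`. -/
theorem prin (FF : Set (Subgroup G)) (hF : ∀ A ∈ FF, ∀ m ∈ normalizer (K : Set G), cj m A ∈ FF)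
    (hex : ∃ A ∈ FF, A ≤ (S : Subgroup G) ∧ ¬ A ≤ centralizer (X : Set G)) :
    ∃ B ∈ FF, B ≤ (S : Subgroup G) ∧ ∃ P, IsParS (S : Subgroup G) P ∧
      ¬ B ≤ centralizer (zl (S : Subgroup G) P : Set G) := by
  by_contra hcon
  push Not at hcon
  obtain ⟨A, hA, hAS, hAV⟩ := hex
  set D : Subgroup G := K ⊔ sSup {B | B ∈ FF ∧ B ≤ (S : Subgroup G)} with hK
  have hKS : D ≤ (S : Subgroup G) := sup_le h.le_S (sSup_le fun B hB => hB.2)
  have hKwc : WC (S : Subgroup G) D := by
    refine h.wc_of le_sup_left hKS fun g hg hgS => ?_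
    have h3 := hgS
    change Subgroup.map _ _ ≤ _
    rw [hK, Subgroup.map_sup]
    refine sup_le_sup (cj_eq_of_mem_normalizer hg).le ?_
    change cj g (sSup {B | B ∈ FF ∧ B ≤ (S : Subgroup G)}) ≤ _
    rw [cj_sSup]
    refine iSup_le fun B => ?_
    have h5 : cj g (B : Subgroup G) ≤ (S : Subgroup G) :=
      (cj_mono g ((le_sSup B.2).trans le_sup_right)).trans hgS
    exact le_sSup (a := cj g (B : Subgroup G)) ⟨hF _ B.2.1 g hg, h5⟩
  have hKP : ∀ P, IsParS (S : Subgroup G) P → D ≤ o2 P := by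
    intro P hP
    refine (le_inf hKS (sup_le ?_ (sSup_le fun B hB => hcon B hB.1 hB.2 P hP))).trans (cs_le_o2 hP)
    exact h.cent.trans (centralizer_le (Star.zl_mono _ (le_YS hP)))
  have hY : YS (S : Subgroup G) ≤ normalizer (D : Set G) := sSup_le fun P hP => par_le_of_wc hKwc hP (hKP P hP)
  have hKc : D ≤ centralizer (zl (S : Subgroup G) (YS (S : Subgroup G)) : Set G) := by
    apply cent_symm
    refine zl_le ?_ (hY.trans ?_)
    · intro z hz
      rw [mem_centralizer_iff]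
      intro k hk
      exact (mem_zc.1 hz).2.1 k (hKS hk)
    · intro y hy
      rw [mem_normalizer_iff_cj, cj_centralizer, cj_eq_of_mem_normalizer hy]
  have h6 : A ≤ D := (le_sSup (s := {B | B ∈ FF ∧ B ≤ (S : Subgroup G)}) ⟨hA, hAS⟩).trans le_sup_right
  exact hAV (h6.trans ((h.max D hKwc hKc).trans h.centX))

/-- the same for an `N(K)`-invariant family and `V*` -/
theorem prinS (FF : Set (Subgroup G)) (hF : ∀ A ∈ FF, ∀ m ∈ normalizer (K : Set G), cj m A ∈ FF)
    (hex : ∃ A ∈ FF, A ≤ (S : Subgroup G) ∧ ¬ A ≤ centralizer (X : Set G)) :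
    ∃ B ∈ FF, B ≤ (S : Subgroup G) ∧
      ¬ B ≤ centralizer (zl (S : Subgroup G) (YS (S : Subgroup G)) : Set G) := by
  obtain ⟨B, h1, h2, P, hP, h3⟩ := h.prin FF hF hex
  exact ⟨B, h1, h2, fun h4 => h3 (h4.trans (centralizer_le (Star.zl_mono _ (le_YS hP))))⟩

end TopLev

/-- `⟨best offenders of S on X⟩ C_S(X)` is weakly closed (`K` w.c., `K ≤ C(X)`, `N(K) ≤ N(X)`). -/
theorem nxtX_wc {K X : Subgroup G} (hK : WC (S : Subgroup G) K) (hX : X ≤ zc K)
    (Xn : normalizer (K : Set G) ≤ normalizer (X : Set G)) : WC (S : Subgroup G) (nxtX (S : Subgroup G) X) := by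
  refine ⟨nxtX_le _ _, fun g hg => ?_⟩
  have hc : K ≤ centralizer (X : Set G) :=
    cent_symm (hX.trans fun _ hx => mem_centralizer_iff.2 fun y hy => (mem_zc.1 hx).2.1 y hy)
  have h1 : K ≤ nxtX (S : Subgroup G) X := (le_inf hK.le hc).trans (inf_cent_le _ _)
  have h2 : cj g K = K := hK.eq g ((cj_mono g h1).trans hg)
  have hgV : g ∈ normalizer (X : Set G) := Xn (by rw [mem_normalizer_iff_cj]; exact h2)
  have h4 : cj g (nxtX (S : Subgroup G) X) ≤ nxtX (S : Subgroup G) X := by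
    have hg' := hg
    rw [nxtX] at hg' ⊢
    change Subgroup.map _ _ ≤ _
    rw [Subgroup.map_sup]
    refine sup_le ((le_inf ?_ ?_).trans le_sup_left) (le_trans ?_ le_sup_right)
    · exact (cj_mono g le_sup_left).trans hg'
    · refine (cj_mono g inf_le_right).trans ?_
      rw [cj_centralizer, cj_eq_of_mem_normalizer hgV]
    · change cj g (sSup {A | A ≤ (S : Subgroup G) ∧ NO1.BestOff.Best X A}) ≤ _
      rw [cj_sSup]
      refine iSup_le fun B => ?_
      exact le_sSup (a := cj g (B : Subgroup G))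
        ⟨(cj_mono g ((le_sSup B.2).trans le_sup_right)).trans hg', B.2.2.conj hgV⟩
  exact Subgroup.eq_of_le_of_card_ge h4 (card_cj _ _).ge

/-- `TopLev S W^ X` -/
theorem topLev_of (hj : jj (S : Subgroup G) ≤ centralizer (zl (S : Subgroup G) (YS (S : Subgroup G)) : Set G))
    {X : Subgroup G} (VX : zl (S : Subgroup G) (YS (S : Subgroup G)) ≤ X)
    (hX : X ≤ zc (WH (S : Subgroup G) (YS (S : Subgroup G))))
    (Xn : normalizer (WH (S : Subgroup G) (YS (S : Subgroup G)) : Set G) ≤ normalizer (X : Set G))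
    (hn : ¬ nxtX (S : Subgroup G) X ≤ centralizer (zl (S : Subgroup G) (YS (S : Subgroup G)) : Set G)) :
    TopLev S (WH (S : Subgroup G) (YS (S : Subgroup G))) X where
  toLev := lev_W hj
  wc := wc_WH _ _
  cent := (WH_le _ _).trans inf_le_right
  max := fun _ h1 h2 => le_WH h1 (le_inf h1.le h2)
  eqK := rfl
  Xle := hX
  Xn := Xn
  VX := VX
  YK := ys_le_M
  wcn := nxtX_wc (wc_WH _ _) hX Xn
  mv := hn

end Cfsg.Agent.Omega.NOThreeL.RLev

end

end
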