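import Cfsg.Agent.Mrg.Omega.NOThreeL.RLev.Chain
import Cfsg.Agent.Mrg.Omega.NO3b.Seed.LocFam
import Cfsg.Agent.Mrg.Omega.NO3b.BasePt.Final
import Cfsg.Agent.Mrg.Omega.NOThreeL.RLev.ExistsLev
import Cfsg.Agent.Mrg.Omega.NOThreeL.RLev.HatMk

-- merged: Cfsg.Agent.Mrg.Omega.NOThreeL.RLev.SeedHat
section

/-!
# Box R of NO-3L: `Ω₁(Z(W^))` is FF, if it lies in `O₂(C_G(Z))` (helper678, #27071)

`V* = ⟨Z^Y⟩`, `Y = ⟨P*(S)⟩`, `J(S) ≤ C_G(V*)`; `W` the largest weakly closed subgroup of `S` in `C_S(V*)`,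
`M = N_G(W)`.

* `HatW S W` : `W` is the largest weakly closed subgroup of `S` in `C_S(V*)` and `J(S)` centralises `V*`;
* `HatW.jj_le`, `HatW.par_le`, `HatW.V_le`, `HatW.cs`, `HatW.o2_eq` : `O₂(N_G(W)) = W`;
* `HatW.seed`, `HatW.stage`, `HatW.core` : the seed `Ω₁(Z(W))` over `M`;
* **`HatW.false_of_low`** : `Ω₁(Z(W)) ≤ O₂(C_G(Z))` and `Ω₁(Z(W))` not FF: False.
-/

set_option autoImplicit false
set_option linter.unusedSectionVars false

namespace Cfsg.Agent.Omega.NOThreeL.RLev.SeedHat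

open Subgroup Cfsg Cfsg.Agent.Omega.MinPar Cfsg.Agent.Omega.Frame Cfsg.Agent.Omega.FrameNOFF
open Cfsg.Agent.ZN (o2 zc zl jj)
open Cfsg.Agent.ZN.ChoiceBase hiding mem_zc
open Cfsg.Agent.Omega.Node.NO3L Cfsg.Agent.Omega.NOThreeL.Basic
open Cfsg.Agent.Omega.NO3b
open Cfsg.Agent.Omega.NO3b.EZero (NotFF le_normalizer_cl cl le_cl)
open Cfsg.Agent.Omega.NO3b.Wc (WC)
open Cfsg.Agent.Omega.NO3b.Exit (wc_S_le)
open Cfsg.Agent.Omega.NO3b.BasePt (BaseFlag baseFlag_of_fam)
open Cfsg.Agent.Omega.NOThreeL.Star (YS le_YS S_le_YS)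
open Cfsg.Agent.Omega.ML.Final (MLK)
open Cfsg.Agent.Omega.NO3b.EndX (AbsP)
open Cfsg.Agent.MinSimple.VModule (zc_le le_normalizer_o2 le_normalizer_zl zc_le_zl zl_le o2_isPGroup
  o2_le le_o2 zc_sq mem_zc normalizer_le_normalizer_zc)

universe u

variable {G : Type u} [Group G]

/-- `W` is the largest weakly closed subgroup of `S` in `C_S(V*)`; `J(S)` centralises `V*`. -/
structure HatW (S W : Subgroup G) : Prop where
  wc : WC S W
  cent : W ≤ centralizer (zl S (YS S) : Set G)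
  max : ∀ K : Subgroup G, WC S K → K ≤ centralizer (zl S (YS S) : Set G) → K ≤ W
  jc : jj S ≤ centralizer (zl S (YS S) : Set G)

/-- It exists. -/
theorem exists_hatW (S : Subgroup G) (h : jj S ≤ centralizer (zl S (YS S) : Set G)) :
    HatW S (sSup {K | WC S K ∧ K ≤ centralizer (zl S (YS S) : Set G)}) where
  wc := WC.sSup fun _ hb => hb.1
  cent := sSup_le fun _ hb => hb.2
  max := fun _ h1 h2 => le_sSup ⟨h1, h2⟩
  jc := h

namespace HatW

variable [Finite G] {S : Sylow 2 G} {W : Subgroup G} (h : HatW (S : Subgroup G) W)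
include h

theorem jj_le : jj (S : Subgroup G) ≤ W := by
  refine h.max _ ⟨ZN.ChoiceBase.jj_le _, fun g hg => ?_⟩ h.jc
  have h1 : jj (S : Subgroup G) ≤ cj g⁻¹ (S : Subgroup G) := cj_le_iff.1 hg
  have h2 := MinSimple.EmptyTI.jj_eq S (isPGroup_cj g⁻¹ S.isPGroup') h1
  rw [jj_cj] at h2
  have h3 := congrArg (cj g) h2
  rw [cj_cj_inv] at h3
  exact h3.symm

theorem S_le : (S : Subgroup G) ≤ normalizer (W : Set G) := wc_S_le h.wc

theorem two : IsPGroup 2 W := S.isPGroup'.to_le h.wc.le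

theorem Z_le : zc (S : Subgroup G) ≤ zc W := by
  intro z hz
  have hz' := mem_zc.1 hz
  have h1 : z ∈ jj (S : Subgroup G) := mem_jj_of_comm hz'.1 hz'.2.2 fun y hy => hz'.2.1 y (ZN.ChoiceBase.jj_le _ hy)
  exact mem_zc.2 ⟨h.jj_le h1, fun y hy => hz'.2.1 y (h.wc.le hy), hz'.2.2⟩

/-- `P*(S) ⊆ N_G(W)` -/
theorem par_le {P : Subgroup G} (hP : IsParS (S : Subgroup G) P) : P ≤ normalizer (W : Set G) := by
  have h1 : W ≤ o2 P := by
    have h2 : W ≤ (S : Subgroup G) ⊓ centralizer (zl (S : Subgroup G) P : Set G) :=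
      le_inf h.wc.le (h.cent.trans (centralizer_le (Star.zl_mono _ (le_YS hP))))
    refine h2.trans ?_
    have hn : P ≤ normalizer ((P ⊓ centralizer (zl (S : Subgroup G) P : Set G) : Subgroup G) : Set G) := by
      intro p hp
      rw [mem_normalizer_iff_cj, cj_inf, cj_centralizer, cj_eq_of_mem_normalizer (le_normalizer hp),
        cj_eq_of_mem_normalizer (le_normalizer_zl _ _ hp)]
    rcases hP.toIsPar.sup_eq_or_inf_le S inf_le_left hn with h4 | h4
    · exfalso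
      apply hP.not_zc
      rw [← h4]
      refine sup_le ?_ ?_
      · exact inf_le_right.trans ((centralizer_le (zc_le_zl _ _)).trans (centralizer_le_normalizer _))
      · exact (le_CZ S).trans (centralizer_le_normalizer _)
    · exact le_trans (le_inf inf_le_left (le_inf (inf_le_left.trans hP.le) inf_le_right)) h4
  intro p hp
  rw [mem_normalizer_iff_cj]
  refine h.wc.eq p ?_
  have h3 := cj_mono p h1
  rw [cj_eq_of_mem_normalizer (le_normalizer_o2 P hp)] at h3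
  exact h3.trans (hP.isLoc.o2_le S)

theorem YS_le : YS (S : Subgroup G) ≤ normalizer (W : Set G) := sSup_le fun _ hP => h.par_le hP

/-- `V* ≤ Ω₁(Z(W))` -/
theorem V_le : zl (S : Subgroup G) (YS (S : Subgroup G)) ≤ zc W :=
  zl_le h.Z_le (h.YS_le.trans (normalizer_le_normalizer_zc _))

/-- a centraliser in `S` of a characteristic part is weakly closed -/
theorem wc_cent {X : Subgroup G} (hX : normalizer (W : Set G) ≤ normalizer (X : Set G))
    (hWX : W ≤ centralizer (X : Set G)) : WC (S : Subgroup G) ((S : Subgroup G) ⊓ centralizer (X : Set G)) := by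
  refine ⟨inf_le_left, fun g hg => ?_⟩
  have h1 : cj g W ≤ (S : Subgroup G) := (cj_mono g (le_inf h.wc.le hWX)).trans hg
  have h2 : g ∈ normalizer (X : Set G) := hX (mem_normalizer_iff_cj.2 (h.wc.eq g h1))
  have h3 : cj g ((S : Subgroup G) ⊓ centralizer (X : Set G)) ≤ (S : Subgroup G) ⊓ centralizer (X : Set G) := by
    refine le_inf hg ?_
    refine (cj_mono g inf_le_right).trans ?_
    rw [cj_centralizer, cj_eq_of_mem_normalizer h2]
  exact eq_of_le_of_card_ge h3 (by rw [card_cj])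

/-- `C_S(Ω₁(Z(W))) = W` -/
theorem cs : (S : Subgroup G) ⊓ centralizer (zc W : Set G) = W := by
  have hc : W ≤ centralizer (zc W : Set G) := MinSimple.VModule.le_centralizer_zc _
  refine le_antisymm ?_ (le_inf h.wc.le hc)
  exact h.max _ (h.wc_cent (normalizer_le_normalizer_zc _) hc) (inf_le_right.trans (centralizer_le h.V_le))

variable (hG : Ctx G)
include hG

theorem isLoc : IsLoc (S : Subgroup G) (normalizer (W : Set G)) := by
  refine ⟨h.S_le, fun h0 => ?_⟩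
  have h1 : W ≤ o2 (normalizer (W : Set G)) := le_o2 le_normalizer h.two (le_of_eq (by simp))
  have h2 : zc (S : Subgroup G) ≠ ⊥ := MinSimple.Basic.zc_ne_bot S.isPGroup' (hG.sylow_ne_bot S)
  apply h2
  rw [eq_bot_iff, ← h0]
  exact (h.Z_le.trans (zc_le _)).trans h1

/-- **`O₂(N_G(W)) = W`** -/
theorem o2_eq : o2 (normalizer (W : Set G)) = W := by
  have hM := h.isLoc hG
  have h1 : W ≤ o2 (normalizer (W : Set G)) := le_o2 le_normalizer h.two (le_of_eq (by simp))
  refine le_antisymm ?_ h1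
  have hO : o2 (normalizer (W : Set G)) ≤ (S : Subgroup G) := hM.o2_le S
  have hn : normalizer (W : Set G) ≤ normalizer (zc (o2 (normalizer (W : Set G))) : Set G) :=
    (le_normalizer_o2 _).trans (normalizer_le_normalizer_zc _)
  have hc : o2 (normalizer (W : Set G)) ≤ centralizer (zc (o2 (normalizer (W : Set G))) : Set G) :=
    MinSimple.VModule.le_centralizer_zc _
  have hV : zl (S : Subgroup G) (YS (S : Subgroup G)) ≤ zc (o2 (normalizer (W : Set G))) :=
    (Star.zl_mono _ h.YS_le).trans (hM.zl_le S hG.char2)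
  exact (le_inf hO hc).trans (h.max _ (h.wc_cent hn (h1.trans hc)) (inf_le_right.trans (centralizer_le hV)))

/-- the seed -/
theorem seed : Seed.Seed S (zc W) (normalizer (W : Set G)) := by
  have h1 := Seed.seed_of hG.char2 (h.isLoc hG)
  rwa [h.o2_eq hG] at h1

omit hG in
theorem cl_eq : cl (zc W) (normalizer (W : Set G)) = zc W := Seed.cl_eq (normalizer_le_normalizer_zc _)

omit hG in
theorem zc_comm : zc W ≤ centralizer (zc W : Set G) :=
  fun _ hx => MinSimple.VModule.le_centralizer_zc _ (zc_le _ hx)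

omit hG in
theorem stage (nff : NotFF (zc W)) (low : zc W ≤ o2 (CZ (S : Subgroup G))) :
    Seed.Stage S (zc W) (normalizer (W : Set G)) where
  le := h.S_le
  ZY := h.Z_le
  comm := by rw [h.cl_eq]; exact h.zc_comm
  sq := by rw [h.cl_eq]; exact zc_sq _
  nff := by rw [h.cl_eq]; exact nff
  cs := by rw [h.cl_eq, h.cs]
  low := by rw [h.cl_eq]; exact low

omit hG in
/-- Weakly closed subgroups of `S` in all `O₂(P')` centralise `Ω₁(Z(W))`. -/
theorem core : Seed.Core (S : Subgroup G) (zc W) := by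
  intro K hK hK2
  have h1 : YS (S : Subgroup G) ≤ normalizer (K : Set G) := sSup_le fun P hP => by
    intro p hp
    rw [mem_normalizer_iff_cj]
    refine hK.eq p ?_
    have h3 := cj_mono p (hK2 P hP)
    rw [cj_eq_of_mem_normalizer (le_normalizer_o2 P hp)] at h3
    exact h3.trans (hP.isLoc.o2_le S)
  have h2 : zl (S : Subgroup G) (YS (S : Subgroup G)) ≤ centralizer (K : Set G) := by
    refine zl_le ?_ ?_
    · intro z hz
      exact mem_centralizer_iff.2 fun k hk => (mem_zc.1 hz).2.1 k (hK.le hk)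
    · intro y hy
      rw [mem_normalizer_iff_cj, cj_centralizer, cj_eq_of_mem_normalizer (h1 hy)]
  exact (h.max K hK (le_centralizer_iff.1 h2)).trans (MinSimple.VModule.le_centralizer_zc _)

/-- **`Ω₁(Z(W)) ≤ O₂(C_G(Z))` is FF.** -/
theorem false_of_low (hF : Full (S : Subgroup G)) (ml : MLK.{u, u}) (ha : AbsP.{u, u}) (nff : NotFF (zc W))
    (low : zc W ≤ o2 (CZ (S : Subgroup G))) : False := by
  have hc := hG.char2
  have hSne := hG.sylow_ne_bot S
  have hZ : zc (S : Subgroup G) ≠ ⊥ := MinSimple.Basic.zc_ne_bot S.isPGroup' hSne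
  obtain ⟨B, g⟩ := Seed.exists_locY hc hZ (h.stage nff low) (h.seed hG)
  obtain ⟨𝒴, Fa, gas, fl⟩ := g.exists_fam hc hZ h.core (fun R hR => h.par_le hR)
    (N := normalizer (B : Set G)) (le_normalizer_cl _ _) g.adm.comm le_rfl
  have hb := baseFlag_of_fam g.adm.lines le_rfl Fa gas fl g.adm.cs
    (fun _ _ p => p.exists_optY g.oz hc (NO3b.Final.stmtOff G) hSne) hc hSne (M := YS (S : Subgroup G))
    (h.YS_le.trans g.le) (sSup_le fun P hP => le_sSup ⟨hP, le_YS hP⟩) (MergeNF.nonLoc_YS hG hF)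
  exact ExEnd.baseFlag_false hG ml ha hb

end HatW

end Cfsg.Agent.Omega.NOThreeL.RLev.SeedHat

end

-- merged: Cfsg.Agent.Mrg.Omega.NOThreeL.RLev.SeedXOf
section

/-!
# Box R of NO-3L: the level `(W^, Ω₁(Z(W^)))` (helper678, #27071; literals of helper2 / helper319)

* `notFF_of_nxt` : `S ≤ N_G(X)`, no best offender of `S` moves `X`: `X` is not FF;
* `hatW_WH` : `HatW S W^`, `W^ = WH S (YS S)`;
* **`seedX_of_low`** : `Ω₁(Z(W^)) ≤ O₂(C_G(Z))`: `nxtX S (Ω₁(Z(W^)))` moves `V*`;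
* `topLev_zc` : `TopLev S W^ (Ω₁(Z(W^)))`.
-/

set_option autoImplicit false
set_option linter.unusedSectionVars false

namespace Cfsg.Agent.Omega.NOThreeL.RLev.SeedHat

open Subgroup Cfsg Cfsg.Agent.Omega.MinPar Cfsg.Agent.Omega.Frame Cfsg.Agent.Omega.FrameNOFF
open Cfsg.Agent.ZN (o2 zc zl jj)
open Cfsg.Agent.ZN.ChoiceBase hiding mem_zc
open Cfsg.Agent.Omega.Node.NO3L Cfsg.Agent.Omega.NOThreeL.Basic
open Cfsg.Agent.Omega.NO3b
open Cfsg.Agent.Omega.NO3b.EZero (NotFF)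
open Cfsg.Agent.Omega.NO3b.Wc (WC WH wc_WH WH_le WH_le_S le_WH)
open Cfsg.Agent.Omega.NO3b.EndX (AbsP)
open Cfsg.Agent.Omega.FFThm (OffM relIndex_le_iff)
open Cfsg.Agent.Omega.NO1.BestOff (Best exists_best)
open Cfsg.Agent.Omega.NOThreeL.Star (YS le_YS S_le_YS)
open Cfsg.Agent.Omega.NOThreeL.RTreeF (RBF)
open Cfsg.Agent.Omega.ML.Final (MLK)
open Cfsg.Agent.MinSimple.VModule (normalizer_le_normalizer_zc)

universe u

variable {G : Type u} [Group G] [Finite G] {S : Sylow 2 G}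

/-- No offender `A ≤ S` on `X`, `S ≤ N_G(X)`: `X` is not FF, in the sense of `EZero.NotFF`. -/
theorem notFF_of_off {X : Subgroup G} (hS : (S : Subgroup G) ≤ normalizer (X : Set G))
    (h : ∀ A ≤ (S : Subgroup G), ¬ OffM X A) : NotFF X := by
  intro A hA hN hsq hcm hne
  by_contra hcon
  rw [not_lt, ← relIndex_le_iff] at hcon
  obtain ⟨n, hn, hnA⟩ := Union.exists_conj_le hS hA hN
  have hV := cj_eq_of_mem_normalizer hn
  have hV' := cj_eq_of_mem_normalizer (inv_mem hn)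
  apply h (cj n A) hnA
  refine ⟨⟨?_, ?_⟩, ?_, ?_⟩
  · intro a ha
    have h1 := hsq _ (mem_cj.1 ha)
    have e : (n⁻¹ * a * n) ^ 2 = n⁻¹ * a ^ 2 * n := by rw [pow_two, pow_two]; group
    rw [e] at h1
    have h2 := mem_cj.2 h1
    rwa [cj_centralizer, hV] at h2
  · intro a ha b hb
    have h1 := hcm _ (mem_cj.1 ha) _ (mem_cj.1 hb)
    have e : n⁻¹ * a * n * (n⁻¹ * b * n) * (n⁻¹ * a * n)⁻¹ * (n⁻¹ * b * n)⁻¹ =
        n⁻¹ * (a * b * a⁻¹ * b⁻¹) * n := by group
    rw [e] at h1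
    have h2 := mem_cj.2 h1
    rwa [cj_centralizer, hV] at h2
  · intro h1
    apply hne
    rw [cj_le_iff, cj_centralizer, hV'] at h1
    exact h1
  · rw [relIndex_le_iff] at hcon ⊢
    rw [← EZero.relIndex_cj n, ← EZero.relIndex_cj n (centralizer _) A, cj_centralizer, cj_centralizer, hV] at hcon
    exact hcon

/-- If the best offenders of `S` on `X` centralise `X`, then `X` is not FF. -/
theorem notFF_of_nxt {X : Subgroup G} (hS : (S : Subgroup G) ≤ normalizer (X : Set G))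
    (h : nxtX (S : Subgroup G) X ≤ centralizer (X : Set G)) : NotFF X := by
  refine notFF_of_off hS fun A hA hoff => ?_
  obtain ⟨D, hDA, hD, hne⟩ := exists_best hoff
  exact hne ((best_le (hDA.trans hA) hD).trans h)

/-- `W^ = WH S (YS S)` -/
theorem hatW_WH (hj : jj (S : Subgroup G) ≤ centralizer (zl (S : Subgroup G) (YS (S : Subgroup G)) : Set G)) :
    HatW (S : Subgroup G) (WH (S : Subgroup G) (YS (S : Subgroup G))) where
  wc := wc_WH _ _
  cent := (WH_le _ _).trans inf_le_right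
  max := fun _ h1 h2 => le_WH h1 (le_inf h1.le h2)
  jc := hj

/-- **`nxtX S (Ω₁(Z(W^)))` moves `V*`**, if `Ω₁(Z(W^)) ≤ O₂(C_G(Z))`. -/
theorem seedX_of_low (ml : MLK.{u, u}) (ha : AbsP.{u, u}) (h : RBF S)
    (hj : jj (S : Subgroup G) ≤ centralizer (zl (S : Subgroup G) (YS (S : Subgroup G)) : Set G))
    (low : zc (WH (S : Subgroup G) (YS (S : Subgroup G))) ≤ o2 (CZ (S : Subgroup G))) :
    ¬ nxtX (S : Subgroup G) (zc (WH (S : Subgroup G) (YS (S : Subgroup G)))) ≤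
      centralizer (zl (S : Subgroup G) (YS (S : Subgroup G)) : Set G) := by
  intro hn
  have H := hatW_WH hj
  have h1 := H.max _ (nxtX_wc H.wc le_rfl (normalizer_le_normalizer_zc _)) hn
  exact H.false_of_low h.ctx h.full ml ha (notFF_of_nxt (H.S_le.trans (normalizer_le_normalizer_zc _))
    (h1.trans (MinSimple.VModule.le_centralizer_zc _))) low

/-- **The level `(W^, Ω₁(Z(W^)))`.** -/
theorem topLev_zc (ml : MLK.{u, u}) (ha : AbsP.{u, u}) (h : RBF S)
    (hj : jj (S : Subgroup G) ≤ centralizer (zl (S : Subgroup G) (YS (S : Subgroup G)) : Set G))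
    (low : zc (WH (S : Subgroup G) (YS (S : Subgroup G))) ≤ o2 (CZ (S : Subgroup G))) :
    TopLev S (WH (S : Subgroup G) (YS (S : Subgroup G))) (zc (WH (S : Subgroup G) (YS (S : Subgroup G)))) :=
  topLev_of hj (hatW_WH hj).V_le le_rfl (normalizer_le_normalizer_zc _) (seedX_of_low ml ha h hj low)

end Cfsg.Agent.Omega.NOThreeL.RLev.SeedHat

end

-- merged: Cfsg.Agent.Mrg.Omega.NOThreeL.RLev.TopEnd
section

/-!
# Box R of NO-3L, `J(S) ≤ C(V*)`: the top level is `(Q, V*)`, `Q = C_S(V*)` (helper816 #27248, helper553 #27445,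
helper678 #27071)

* `Top S` : `Q` is weakly closed in `S`, `Ω₁(Z(Q)) = V*`, `N_G(T) ≤ N_G(Q) ≤ N_G(V*)` (`Q ≤ T ≤ S`), `LevX S Q V*`;
* `VX S` : every `TopLev S K X` has `X = V*`, `K = Q`; `SeedQ S` : if `W^ = Q` then the best offenders of `S` on
  `Ω₁(Z(Q))` move `V*`;
* **`top_of`** : box R, `J(S) ≤ C(V*)`, `VX S`, `SeedQ S` ⟹ `Top S`.
-/

set_option autoImplicit false
set_option linter.unusedSectionVars false

namespace Cfsg.Agent.Omega.NOThreeL.RLev

open Subgroup Cfsg Cfsg.Agent.Omega.MinPar Cfsg.Agent.Omega.Frame Cfsg.Agent.Omega.FrameNOFF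
open Cfsg.Agent.ZN (o2 zc zl jj)
open Cfsg.Agent.ZN.ChoiceBase hiding mem_zc
open Cfsg.Agent.Omega.Node.NO3L Cfsg.Agent.Omega.NOThreeL.Basic
open Cfsg.Agent.Omega.NO3b.Bang
open Cfsg.Agent.Omega.NO3b.Wc (WC WH WH_le WH_le_S)
open Cfsg.Agent.Omega.NOThreeL.Star (YS le_YS S_le_YS)
open Cfsg.Agent.Omega.NO3S.Level (Lev)
open Cfsg.Agent.Omega.NOThreeL.RTreeF (RBF)
open Cfsg.Agent.Omega.NOThreeL.Merge (MZ)
open Cfsg.Agent.Omega.NOThreeL.RRed (Wd)
open Cfsg.Agent.Omega.NO3b.EndX (AbsP)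
open Cfsg.Agent.Omega.ML.Final (MLK)
open Cfsg.Agent.MinSimple.VModule (zc_le le_normalizer_zl zl_le mem_zc normalizer_le_normalizer_zc)

universe u

variable {G : Type u} [Group G] [Finite G] {S : Sylow 2 G}

/-- **The top level is `(Q, V*)`.** -/
structure Top (S : Sylow 2 G) : Prop where
  /-- `J(S) ≤ C(V*)` -/
  hj : jj (S : Subgroup G) ≤ centralizer (Wd (S : Subgroup G) : Set G)
  /-- `Q` is weakly closed in `S` -/
  wc : WC (S : Subgroup G) ((S : Subgroup G) ⊓ centralizer (Wd (S : Subgroup G) : Set G))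
  /-- `Ω₁(Z(Q)) = V*` -/
  zcQ : zc ((S : Subgroup G) ⊓ centralizer (Wd (S : Subgroup G) : Set G)) = Wd (S : Subgroup G)
  /-- `N_G(Q) ≤ N_G(V*)` -/
  norm : normalizer (((S : Subgroup G) ⊓ centralizer (Wd (S : Subgroup G) : Set G) : Subgroup G) : Set G) ≤
    normalizer (Wd (S : Subgroup G) : Set G)
  /-- `M₀ = MZ S ≤ N_G(Q)` -/
  YQ : MZ (S : Subgroup G) ≤
    normalizer (((S : Subgroup G) ⊓ centralizer (Wd (S : Subgroup G) : Set G) : Subgroup G) : Set G)
  levX : RRed.FourTree.LevX (S : Subgroup G) ((S : Subgroup G) ⊓ centralizer (Wd (S : Subgroup G) : Set G))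
    (Wd (S : Subgroup G))
  wcn : WC (S : Subgroup G) (nxtX (S : Subgroup G) (Wd (S : Subgroup G)))
  mv : ¬ nxtX (S : Subgroup G) (Wd (S : Subgroup G)) ≤ centralizer (Wd (S : Subgroup G) : Set G)

namespace Top

variable (h : Top S)
include h

theorem lev : Lev (S : Subgroup G) ((S : Subgroup G) ⊓ centralizer (Wd (S : Subgroup G) : Set G)) := h.levX.toLev

/-- `N_G(T) ≤ N_G(Q)` for `Q ≤ T ≤ S` -/
theorem norm_T {T : Subgroup G} (h1 : (S : Subgroup G) ⊓ centralizer (Wd (S : Subgroup G) : Set G) ≤ T)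
    (h2 : T ≤ (S : Subgroup G)) : normalizer (T : Set G) ≤
      normalizer (((S : Subgroup G) ⊓ centralizer (Wd (S : Subgroup G) : Set G) : Subgroup G) : Set G) := by
  intro g hg
  rw [mem_normalizer_iff_cj]
  refine h.wc.eq g (((cj_mono g h1).trans (cj_eq_of_mem_normalizer hg).le).trans h2)

/-- `N_G(T) ≤ N_G(V*)` for `Q ≤ T ≤ S` -/
theorem norm_T' {T : Subgroup G} (h1 : (S : Subgroup G) ⊓ centralizer (Wd (S : Subgroup G) : Set G) ≤ T)
    (h2 : T ≤ (S : Subgroup G)) : normalizer (T : Set G) ≤ normalizer (Wd (S : Subgroup G) : Set G) :=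
  (h.norm_T h1 h2).trans h.norm

/-- `Q^g ≤ S` implies `g ∈ N_G(V*)`. -/
theorem mem_norm {g : G}
    (hg : cj g ((S : Subgroup G) ⊓ centralizer (Wd (S : Subgroup G) : Set G)) ≤ (S : Subgroup G)) :
    g ∈ normalizer (Wd (S : Subgroup G) : Set G) :=
  h.norm (by rw [mem_normalizer_iff_cj]; exact h.wc.eq g hg)

/-- `F ≥ S` with `Q ≤ O₂(F)` normalises `V*`. -/
theorem norm_of_le {F : Subgroup G}
    (hQ : (S : Subgroup G) ⊓ centralizer (Wd (S : Subgroup G) : Set G) ≤ o2 F) (hF : o2 F ≤ (S : Subgroup G)) :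
    F ≤ normalizer (Wd (S : Subgroup G) : Set G) :=
  (MinSimple.VModule.le_normalizer_o2 F).trans (h.norm_T' hQ hF)

end Top

/-- every `TopLev S K X` is `(Q, V*)` (helper553, 816, 540) -/
def VX (S : Sylow 2 G) : Prop := ∀ K X : Subgroup G, TopLev S K X →
  X = zl (S : Subgroup G) (YS (S : Subgroup G)) ∧
    K = (S : Subgroup G) ⊓ centralizer (zl (S : Subgroup G) (YS (S : Subgroup G)) : Set G)

/-- if `W^ = Q` then the best offenders of `S` on `Ω₁(Z(Q))` move `V*` (helper2, helper678) -/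
def SeedQ (S : Sylow 2 G) : Prop :=
  WH (S : Subgroup G) (YS (S : Subgroup G)) =
    (S : Subgroup G) ⊓ centralizer (zl (S : Subgroup G) (YS (S : Subgroup G)) : Set G) →
  ¬ nxtX (S : Subgroup G)
      (zc ((S : Subgroup G) ⊓ centralizer (zl (S : Subgroup G) (YS (S : Subgroup G)) : Set G))) ≤
    centralizer (zl (S : Subgroup G) (YS (S : Subgroup G)) : Set G)

/-- **The top level is `(Q, V*)`.** -/
theorem top_of (ml : MLK.{u, u}) (ha : AbsP.{u, u}) (h : RBF S)
    (hj : jj (S : Subgroup G) ≤ centralizer (Wd (S : Subgroup G) : Set G)) (vx : VX S) (sd : SeedQ S) : Top S := by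
  have hj' : jj (S : Subgroup G) ≤ centralizer (zl (S : Subgroup G) (YS (S : Subgroup G)) : Set G) := hj
  rcases exists_hatLev ml ha h with h1 | ⟨K, X, H⟩
  · exact absurd hj' h1
  obtain ⟨hX, hK⟩ := vx K X H.toTopLev
  have hW : WH (S : Subgroup G) (YS (S : Subgroup G)) =
      (S : Subgroup G) ⊓ centralizer (zl (S : Subgroup G) (YS (S : Subgroup G)) : Set G) := H.eqK.symm.trans hK
  have hn := sd hW
  rw [← hW] at hn
  have hVz : zl (S : Subgroup G) (YS (S : Subgroup G)) ≤ zc (WH (S : Subgroup G) (YS (S : Subgroup G))) := by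
    rw [← H.eqK, ← hX]
    exact H.Xle
  have T := topLev_of hj' hVz le_rfl (normalizer_le_normalizer_zc _) hn
  have hz := (vx _ _ T).1
  rw [hX] at H
  rw [hK] at H
  exact
    { hj := hj
      wc := H.wc
      zcQ := by
        rw [hW] at hz
        exact hz
      norm := H.Xn
      YQ := H.YK
      levX := H.levX
      wcn := H.wcn
      mv := H.mv }

end Cfsg.Agent.Omega.NOThreeL.RLev

end

-- merged: Cfsg.Agent.Mrg.Omega.NOThreeL.RLev.LowZc
section

/-!
# Box R: `Ω₁(Z(W^)) ≤ O₂(C_G(Z))` (helper492 #26533 with `V = Ω₁(Z(W^))`, helper678 #27071 (LOW))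

`W` = the largest weakly closed subgroup of `S` in `C_S(V*)`, `M = N_G(W)`, `V = Ω₁(Z(W))`.

* `Dt S M V` : what `Hat.low` uses; `Dt.low` : `V ≤ O₂(C_G(Z))`;
* `HatW.root`, `HatW.start`, `HatW.dt` : `Dt S (N_G(W)) (Ω₁(Z(W)))`;
* **`seedX`** : `J(S) ≤ C(V*)`: `nxtX S (Ω₁(Z(W^)))` moves `V*`; `topLev_zc`; **`seedQ : SeedQ S`**.
-/

set_option autoImplicit false
set_option linter.unusedSectionVars false

namespace Cfsg.Agent.Omega.NOThreeL.RLev.LowZc

open Subgroup Cfsg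
open Cfsg.Agent.ZN hiding mem_zc le_o2 le_normalizer_o2 zl_le normalizer_le_normalizer_zc zc_le le_centralizer_zc
open Cfsg.Agent.Omega.MinPar Cfsg.Agent.Omega.Frame
open Cfsg.Agent.Omega.FrameNOFF
open Cfsg.Agent.Omega.NoFF.Basic (conj_conj mem_conj conj_le_iff conj_le_centralizer comm_symm comm_mono
  Z_le_V V_le Sys)
open Cfsg.Agent.Omega.NOne.Flat (EE WW Hyp Bad)
open Cfsg.Agent.Omega.NOThreeL.Basic (CaseA)
open Cfsg.Agent.Omega.NOThreeL.Pair (conj_eq_of_mem conj_le_normalizer)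
open Cfsg.Agent.Omega.Node.NO3L
open Cfsg.Agent.ZN.ChoiceBase (cj isPGroup_cj)
open Cfsg.Agent.Omega.NOThreeL.RLow (SitG good_of_ne card_zc sit_false parts)
open Cfsg.Agent.Omega.NOThreeL.RLev.Hat (AC NX St)
open Cfsg.Agent.Omega.NO3b.EZero (NotFF cl)
open Cfsg.Agent.Omega.NO3b.EndX (AbsP)
open Cfsg.Agent.Omega.ML.Final (MLK)
open Cfsg.Agent.Omega.NOThreeL.Star (YS le_YS S_le_YS)
open Cfsg.Agent.Omega.NOThreeL.RTreeF (RBF)
open Cfsg.Agent.Omega.NOThreeL.RRed (Wd)
open Cfsg.Agent.Omega.NOThreeL.RLev.SeedHat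
open Cfsg.Agent.MinSimple.VModule (zc_le_zl zc_le zl_le_zc zl_le o2_isPGroup le_normalizer_o2 le_normalizer_zl
  mem_zc le_o2 o2_le le_centralizer_zc zc_sq zc_comm normalizer_le_normalizer_zc)
open scoped Pointwise

universe u

variable {G : Type u} [Group G] [Finite G] {S : Sylow 2 G} {M V : Subgroup G}

/-- What `Hat.low` uses. -/
structure Dt (S : Sylow 2 G) (M V : Subgroup G) : Prop where
  ctx : Ctx G
  D : Data (S : Subgroup G)
  notA : ¬ CaseA (S : Subgroup G)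
  SM : (S : Subgroup G) ≤ M
  MV : M ≤ normalizer (V : Set G)
  ZV : zc (S : Subgroup G) ≤ V
  LV : ∀ {Q : Subgroup G}, IsParS (S : Subgroup G) Q → zl (S : Subgroup G) Q ≤ V
  VS : V ≤ (S : Subgroup G)
  prin : ∀ FF : Set (Subgroup G), (∀ A ∈ FF, ∀ m ∈ M, cj m A ∈ FF) →
    (∃ A ∈ FF, A ≤ (S : Subgroup G) ∧ ¬ A ≤ centralizer (V : Set G)) →
    ∃ B ∈ FF, B ≤ (S : Subgroup G) ∧ ∃ P, IsParS (S : Subgroup G) P ∧
      ¬ B ≤ centralizer (zl (S : Subgroup G) P : Set G)
  start : ¬ V ≤ o2 (CZ (S : Subgroup G)) → ∃ F, Hyp V F ∧ WW V F ≤ (S : Subgroup G)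

namespace Dt

variable (h : Dt S M V)
include h

/-- PRINCIPLE' for the groups `C_W(B)` -/
theorem push {F B : Subgroup G} (s : St S M V F B) (hA : AC V F B ≤ (S : Subgroup G)) :
    ∃ F' B', St S M V F' B' ∧ AC V F' B' ≤ (S : Subgroup G) ∧ Nat.card B' = Nat.card B ∧
      (¬ V ⊓ B ≤ F → ¬ V ⊓ B' ≤ F') ∧ (∃ m ∈ M, F' = MulAut.conj m • F ∧ B' = MulAut.conj m • B) ∧
      ∃ P, IsParS (S : Subgroup G) P ∧ ¬ AC V F' B' ≤ centralizer (zl (S : Subgroup G) P : Set G) := by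
  obtain ⟨A', ⟨m, hm, rfl⟩, hS, P, hP, hmv⟩ := h.prin {A | ∃ m ∈ M, A = cj m (AC V F B)}
    (by
      rintro _ ⟨m, hm, rfl⟩ n hn
      refine ⟨n * m, mul_mem hn hm, ?_⟩
      exact ChoiceBase.cj_cj _ _ _)
    ⟨AC V F B, ⟨1, one_mem _, by
      change _ = MulAut.conj (1 : G) • AC V F B
      rw [map_one, one_smul]⟩, hA, s.moves⟩
  have e : cj m (AC V F B) = AC V (MulAut.conj m • F) (MulAut.conj m • B) := Hat.conj_AC (h.MV hm)
  rw [e] at hS hmv
  refine ⟨MulAut.conj m • F, MulAut.conj m • B, s.conj h.MV hm, hS, ?_, ?_, ⟨m, hm, rfl, rfl⟩, P, hP, hmv⟩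
  · exact Subgroup.card_map_of_injective (MulAut.conj m).injective
  · intro h1 h2
    apply h1
    have h3 := conj_le_iff (g := m⁻¹).2 h2
    rw [Subgroup.smul_inf, Hat.conj_inv_conj, Hat.conj_inv_conj, conj_eq_of_mem (h.MV (inv_mem hm))] at h3
    exact h3

/-- **THEOREM** (#26533): `V^ ≤ O₂(C_G(Z))`. -/
theorem low (hR : ∃ R, IsParS (S : Subgroup G) R ∧ zc (S : Subgroup G) ⊓ centralizer (R : Set G) ≠ ⊥) :
    V ≤ o2 (CZ (S : Subgroup G)) := by
  by_contra hn
  have h2 : 2 < Nat.card (zc (S : Subgroup G)) := by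
    obtain ⟨R, hR, hz⟩ := hR
    exact card_zc hR hz
  have hzne : zc (S : Subgroup G) ≠ ⊥ := Low.zc_ne_bot h.ctx
  have hZS : (S : Subgroup G) ≤ centralizer (zc (S : Subgroup G) : Set G) := fun s hs =>
    mem_centralizer_iff.2 fun z hz => ((mem_zc.1 hz).2.1 s hs).symm
  -- the start
  have h0 : ∃ F, Hyp V F ∧ WW V F ≤ (S : Subgroup G) := by
    exact h.start hn
  obtain ⟨F, hF, hW⟩ := h0
  have hAF : AC V F F ≤ (S : Subgroup G) := inf_le_left.trans hW
  obtain ⟨F, B, s, hA, -, -, ⟨m, hm, rfl, rfl⟩, P, hP, hmv⟩ := h.push (st_start hF) hAF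
  set F := MulAut.conj m • F with hFdef
  have hWS : WW V F ≤ (S : Subgroup G) := by
    refine le_trans (le_inf le_rfl ?_) hA
    exact NOne.Flat.Hyp.W_le_X
  have hZF : zc (S : Subgroup G) ≤ F := by
    rw [← s.hyp.cent_VW]
    exact le_inf h.ZV (comm_symm (hWS.trans hZS))
  have hgood : zl (S : Subgroup G) P ≤ EE V F := by
    refine good_of_ne h.D h.notA s.hyp hP (h.LV hP) (g := 1) (one_mem _) ?_
    rw [map_one, one_smul, inf_eq_left.2 hZF]
    exact hzne
  have s1 := s.enlarge h.ctx.char2 h.D.noff hA (one_mem _) hP hgood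
  have hUB : zl (S : Subgroup G) P ≤ F ⊔ NX (zl (S : Subgroup G) P) F := by
    have h3 := Z_le_V (Z := zl (S : Subgroup G) P) (one_mem (centralizer (F : Set G)))
    rw [map_one, one_smul] at h3
    exact h3.trans le_sup_right
  have hne1 : ¬ V ⊓ (F ⊔ NX (zl (S : Subgroup G) P) F) ≤ F := by
    intro h3
    apply hmv
    refine Hat.AC_le_C.trans (centralizer_le ?_)
    exact (le_inf (h.LV hP) hUB).trans h3
  have hanti : ∀ {F B B' : Subgroup G}, B ≤ B' → AC V F B' ≤ AC V F B := fun hle =>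
    inf_le_inf_left _ (centralizer_le hle)
  -- a maximal state
  obtain ⟨⟨F₁, B₁⟩, ⟨t1, t2, t3⟩, hmax⟩ := Set.exists_max_image
    {q : Subgroup G × Subgroup G | St S M V q.1 q.2 ∧ AC V q.1 q.2 ≤ (S : Subgroup G) ∧ ¬ V ⊓ q.2 ≤ q.1}
    (fun q => Nat.card q.2) (Set.toFinite _)
    ⟨(F, F ⊔ NX (zl (S : Subgroup G) P) F), s1, (hanti le_sup_left).trans hA, hne1⟩
  dsimp only at t1 t2 t3 hmax
  obtain ⟨F₂, B₂, u, uA, ucard, une, -, Q, hQ, hQm⟩ := h.push t1 t2
  have une' := une t3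
  -- ENLARGE gives nothing new
  have key : ∀ R, IsParS (S : Subgroup G) R → zl (S : Subgroup G) R ≤ EE V F₂ →
      zl (S : Subgroup G) R ≤ B₂ := by
    intro R hR' hRE
    have u1 := u.enlarge h.ctx.char2 h.D.noff uA (one_mem _) hR' hRE
    have h3 := hmax (F₂, B₂ ⊔ NX (zl (S : Subgroup G) R) F₂)
      ⟨u1, (hanti le_sup_left).trans uA, fun h4 => une' ((inf_le_inf_left _ le_sup_left).trans h4)⟩
    dsimp only at h3
    rw [← ucard] at h3
    have h4 : B₂ = B₂ ⊔ NX (zl (S : Subgroup G) R) F₂ := eq_of_le_of_card_ge le_sup_left h3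
    rw [h4]
    have h5 := Z_le_V (Z := zl (S : Subgroup G) R) (one_mem (centralizer (F₂ : Set G)))
    rw [map_one, one_smul] at h5
    exact h5.trans le_sup_right
  have hbad : ¬ zl (S : Subgroup G) Q ≤ EE V F₂ := fun hE =>
    hQm (Hat.AC_le_C.trans (centralizer_le (key Q hQ hE)))
  exact sit_false parts (u.sit h.ctx h.D h.notA uA une' h.VS h.ZV (fun _ hR' => h.LV hR') key hQ hbad h2) hR

end Dt

section hat

open Cfsg.Agent.ZN.ChoiceBase
open Cfsg.Agent.Omega.NO3b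

variable {W : Subgroup G}

theorem root (h : HatW (S : Subgroup G) W) (nff : NotFF (zc W)) : Seed.Root S (zc W) (normalizer (W : Set G)) where
  le := h.S_le
  ZY := h.Z_le
  comm := by rw [h.cl_eq]; exact h.zc_comm
  sq := by rw [h.cl_eq]; exact zc_sq _
  nff := by rw [h.cl_eq]; exact nff
  cs := by rw [h.cl_eq, h.cs]

theorem QL_eq (h : HatW (S : Subgroup G) W) : Seed.QL (S : Subgroup G) (zc W) (normalizer (W : Set G)) = W := by
  rw [Seed.QL, h.cl_eq, h.cs]

theorem WH_eq (h : HatW (S : Subgroup G) W) : Seed.WH (S : Subgroup G) (zc W) (normalizer (W : Set G)) = W := by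
  rw [Seed.Root.WH_eq (by rw [QL_eq h]; exact h.wc), QL_eq h]

theorem ML_eq (h : HatW (S : Subgroup G) W) :
    Seed.ML (S : Subgroup G) (zc W) (normalizer (W : Set G)) = normalizer (W : Set G) := by
  rw [Seed.ML, WH_eq h]

theorem VL_eq (h : HatW (S : Subgroup G) W) : Seed.VL (S : Subgroup G) (zc W) (normalizer (W : Set G)) = zc W := by
  rw [Seed.VL, ML_eq h, h.cl_eq]

theorem flatHyp (h : HatW (S : Subgroup G) W) (hc : IsCharacteristicTwoType G) (nff : NotFF (zc W)) {F : Subgroup G}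
    (hF : Bad (zc W) F) (hmax : ∀ D : Subgroup G, Bad (zc W) D → F ≤ D → D = F) : Hyp (zc W) F where
  comm := h.zc_comm
  sq := zc_sq _
  syl := fun D _ hD => by
    have h1 := (root h nff).o2_cent_le (D := D) (by rw [VL_eq h]; exact hD)
    rw [ML_eq h] at h1
    exact h1.trans (normalizer_le_normalizer_zc _)
  noff := by
    intro A hN hA h2 hne
    refine Union.card_lt (nff A (fun x => ⟨1, Subtype.ext (by simpa using h2 x x.2)⟩) hN
      (fun a ha => by rw [h2 a ha]; exact one_mem _) (fun a ha b hb => ?_) hne)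
    have e : a * b = b * a := (mem_centralizer_iff.1 (hA ha) b hb).symm
    rw [e, mul_inv_cancel_right, mul_inv_cancel]
    exact one_mem _
  char2 := NOne.LemmaT.char2_centralizer hc
    ((S.isPGroup'.to_le h.wc.le).to_le (hF.le.trans (zc_le _))) hF.ne
  bad := hF
  max := hmax

theorem start (h : HatW (S : Subgroup G) W) (hG : Ctx G) (nff : NotFF (zc W))
    (hn : ¬ zc W ≤ o2 (CZ (S : Subgroup G))) : ∃ F, Hyp (zc W) F ∧ WW (zc W) F ≤ (S : Subgroup G) := by
  have hZ : zc (S : Subgroup G) ≠ ⊥ := MinSimple.Basic.zc_ne_bot S.isPGroup' (hG.sylow_ne_bot S)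
  obtain ⟨F, -, hF, hmax⟩ := NOne.Flat.exists_max (V := zc W) (F₀ := zc (S : Subgroup G)) ⟨hZ, h.Z_le, hn⟩
  have hfl := flatHyp h hG.char2 nff hF hmax
  have r := root h nff
  have hWM : WW (zc W) F ≤ normalizer (W : Set G) := by
    have h1 := r.o2_cent_le (D := F) (by rw [VL_eq h]; exact hF.le)
    rw [ML_eq h] at h1
    exact NOne.Flat.Hyp.W_le_R.trans h1
  have hW2 : IsPGroup 2 (WW (zc W) F : Subgroup G) := (o2_isPGroup _).to_le NOne.Flat.Hyp.W_le_R
  obtain ⟨m, hm, hmW⟩ := r.exists_conj_le hW2 (by rw [ML_eq h]; exact hWM)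
  rw [ML_eq h] at hm
  have hmV := normalizer_le_normalizer_zc _ hm
  refine ⟨MulAut.conj m • F, hfl.conj hmV, ?_⟩
  rw [← NOne.Flat.WW_conj hmV]
  exact hmW

theorem dt (h : HatW (S : Subgroup G) W) (hR : RBF S) (nff : NotFF (zc W)) :
    Dt S (normalizer (W : Set G)) (zc W) where
  ctx := hR.ctx
  D := hR.data
  notA := hR.notA
  SM := h.S_le
  MV := normalizer_le_normalizer_zc _
  ZV := h.Z_le
  LV := fun hQ => (Star.zl_mono _ (le_YS hQ)).trans h.V_le
  VS := (zc_le _).trans h.wc.le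
  prin := fun FF hF hex => NoOverHat.exists_act hR.ctx.char2 h.wc h.max (normalizer_le_normalizer_zc _) h.V_le
    (le_centralizer_zc _) FF hF hex
  start := start h hR.ctx nff

/-- **`Ω₁(Z(W^))` is FF.** -/
theorem ff (ml : MLK.{u, u}) (ha : AbsP.{u, u}) (h : HatW (S : Subgroup G) W) (hR : RBF S) : ¬ NotFF (zc W) := fun nff =>
  h.false_of_low hR.ctx hR.full ml ha nff ((dt h hR nff).low hR.ex)

/-- **`nxtX S (Ω₁(Z(W^)))` moves `V*`.** -/
theorem seedX (ml : MLK.{u, u}) (ha : AbsP.{u, u}) (h : RBF S)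
    (hj : jj (S : Subgroup G) ≤ centralizer (zl (S : Subgroup G) (YS (S : Subgroup G)) : Set G)) :
    ¬ nxtX (S : Subgroup G) (zc (NO3b.Wc.WH (S : Subgroup G) (YS (S : Subgroup G)))) ≤
      centralizer (zl (S : Subgroup G) (YS (S : Subgroup G)) : Set G) := by
  intro hn
  have H := hatW_WH hj
  have h1 := H.max _ (nxtX_wc H.wc le_rfl (normalizer_le_normalizer_zc _)) hn
  exact ff ml ha H h (notFF_of_nxt (H.S_le.trans (normalizer_le_normalizer_zc _))
    (h1.trans (MinSimple.VModule.le_centralizer_zc _)))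

/-- **The level `(W^, Ω₁(Z(W^)))`.** -/
theorem topLev_zc (ml : MLK.{u, u}) (ha : AbsP.{u, u}) (h : RBF S)
    (hj : jj (S : Subgroup G) ≤ centralizer (zl (S : Subgroup G) (YS (S : Subgroup G)) : Set G)) :
    TopLev S (NO3b.Wc.WH (S : Subgroup G) (YS (S : Subgroup G)))
      (zc (NO3b.Wc.WH (S : Subgroup G) (YS (S : Subgroup G)))) :=
  topLev_of hj (hatW_WH hj).V_le le_rfl (normalizer_le_normalizer_zc _) (seedX ml ha h hj)

/-- **`SeedQ S`** -/
theorem seedQ (ml : MLK.{u, u}) (ha : AbsP.{u, u}) (h : RBF S)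
    (hj : jj (S : Subgroup G) ≤ centralizer (Wd (S : Subgroup G) : Set G)) : SeedQ S := fun hQ => by
  have h1 := seedX ml ha h hj
  rwa [hQ] at h1

/-- **The top level is `(Q, V*)`**, from `VX S`. -/
theorem top_of_vx (ml : MLK.{u, u}) (ha : AbsP.{u, u}) (h : RBF S)
    (hj : jj (S : Subgroup G) ≤ centralizer (Wd (S : Subgroup G) : Set G)) (vx : VX S) : Top S :=
  top_of ml ha h hj vx (seedQ ml ha h hj)

end hat

end Cfsg.Agent.Omega.NOThreeL.RLev.LowZc

end
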